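import Cfsg.Agent.Lib.OrthClassNum.Weights

/-!
The numerical bound for the weighted number of data of an orthogonal group of odd dimension.
-/

set_option autoImplicit false

namespace CfsgLib.OrthClassNum

open Finset

/-- The bound for the generating function of the block size `i`. -/
noncomputable def afac (i : ℕ) : ℝ :=
  if Even i then (1 - (29 / 50 : ℝ) ^ (2 * (i - 1)))⁻¹
  else 1 + 4 * (29 / 50) ^ i + 3 * (29 / 50) ^ (2 * (i - 1)) +
    (16 / 3 * (29 / 50) ^ i * (29 / 50) ^ (2 * (i - 1)) +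
      28 / 9 * ((29 / 50) ^ (2 * (i - 1))) ^ 2) / (1 - (29 / 50) ^ (2 * (i - 1)))

theorem rpow_lt_one {i : ℕ} (hi : 2 ≤ i) : (29 / 50 : ℝ) ^ (2 * (i - 1)) < 1 :=
  pow_lt_one₀ (by norm_num) (by norm_num) (by omega)

theorem sum_gw_le {i : ℕ} (hi : 2 ≤ i) (N : ℕ) : ∑ t ∈ range N, gw i t ≤ afac i := by
  set r : ℝ := (29 / 50 : ℝ) ^ (2 * (i - 1)) with hr
  have hr0 : 0 ≤ r := by positivity
  have hr1 : r < 1 := rpow_lt_one hi
  by_cases hev : Even i
  · simp only [gw, afac, if_pos hev, ← hr]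
    exact CfsgLib.SpClassNum.geom_le hr0 hr1 N
  refine (sum_le_sum_of_subset_of_nonneg (range_subset_range.2 (show N ≤ 2 * N + 3 by omega))
    fun t _ _ => gw_nonneg i t).trans ?_
  have e : ∀ M : ℕ, ∑ t ∈ range (2 * M + 3), gw i t = 1 + 4 * (29 / 50 : ℝ) ^ i + 3 * r +
      (16 / 3 * (29 / 50) ^ i * r + 28 / 9 * r ^ 2) * ∑ e ∈ range M, r ^ e := by
    intro M
    induction M with
    | zero => simp [sum_range_succ, gw, if_neg hev, ← hr]
    | succ M ih =>
      rw [show 2 * (M + 1) + 3 = 2 * M + 3 + 1 + 1 by omega, sum_range_succ, sum_range_succ, ih,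
        sum_range_succ _ M]
      simp only [gw, if_neg hev, ← hr, if_neg (show ¬(2 * M + 3 = 0) by omega),
        if_neg (show ¬(2 * M + 3 = 1) by omega), if_neg (show ¬(2 * M + 3 = 2) by omega),
        if_pos (show Odd (2 * M + 3) by use M + 1; omega),
        if_neg (show ¬(2 * M + 3 + 1 = 0) by omega), if_neg (show ¬(2 * M + 3 + 1 = 1) by omega),
        if_neg (show ¬(2 * M + 3 + 1 = 2) by omega),
        if_neg (show ¬Odd (2 * M + 3 + 1) by rw [Nat.not_odd_iff_even]; use M + 2; omega),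
        show (2 * M + 3) / 2 = M + 1 by omega, show (2 * M + 3 + 1) / 2 = M + 2 by omega, pow_add, pow_one]
      ring
  rw [e, afac, if_neg hev, ← hr]
  refine (add_le_add_right (mul_le_mul_of_nonneg_left (CfsgLib.SpClassNum.geom_le hr0 hr1 N)
    (by positivity)) _).trans_eq ?_
  ring

theorem one_le_afac {i : ℕ} (hi : 2 ≤ i) : 1 ≤ afac i :=
  le_trans (by simp [gw]) (sum_gw_le hi 1)

theorem afac_le {i : ℕ} (hi : 13 ≤ i) : afac i ≤ 1 + 5 * (29 / 50 : ℝ) ^ i := by
  set x : ℝ := (29 / 50 : ℝ) with hx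
  set r : ℝ := x ^ (2 * (i - 1)) with hr
  set a : ℝ := x ^ i with ha
  have hx0 : 0 ≤ x := by norm_num [hx]
  have hx1 : x ≤ 1 := by norm_num [hx]
  have ha0 : 0 ≤ a := pow_nonneg hx0 _
  have hr0 : 0 ≤ r := pow_nonneg hx0 _
  have har : r ≤ a * (1 / 100) := by
    calc r = x ^ i * x ^ (i - 2) := by rw [hr, ← pow_add]; congr 1; omega
      _ ≤ a * (1 / 100) := mul_le_mul_of_nonneg_left
          ((pow_le_pow_of_le_one hx0 hx1 (show 11 ≤ i - 2 by omega)).trans (by norm_num [hx])) ha0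
  have ha1 : a ≤ 1 / 100 :=
    (pow_le_pow_of_le_one hx0 hx1 (show 11 ≤ i by omega)).trans (by norm_num [hx])
  have hr1 : 0 < 1 - r := by linarith
  have hra := mul_le_mul har har hr0 (by positivity)
  unfold afac
  rw [← hx, ← ha, ← hr]
  split_ifs
  · rw [inv_le_iff_one_le_mul₀' hr1]
    nlinarith
  · have : (16 / 3 * a * r + 28 / 9 * r ^ 2) / (1 - r) ≤ a / 2 := by
      rw [div_le_iff₀ hr1]
      nlinarith
    linarith

theorem prod_tail (M : ℕ) : (∏ k ∈ range M, afac (k + 13)) *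
    (1 - ∑ k ∈ range M, 5 * (29 / 50 : ℝ) ^ (k + 13)) ≤ 1 := by
  induction M with
  | zero => simp
  | succ M ih =>
    rw [prod_range_succ, sum_range_succ]
    set P := ∏ k ∈ range M, afac (k + 13)
    set S := ∑ k ∈ range M, 5 * (29 / 50 : ℝ) ^ (k + 13)
    have hP : 0 ≤ P := prod_nonneg fun k _ => zero_le_one.trans (one_le_afac (by omega))
    have hS : 0 ≤ S := by positivity
    have hA := afac_le (show 13 ≤ M + 13 by omega)
    have hA1 := one_le_afac (show 2 ≤ M + 13 by omega)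
    have ha : 0 ≤ 5 * (29 / 50 : ℝ) ^ (M + 13) := by positivity
    generalize afac (M + 13) = A at *
    generalize 5 * (29 / 50 : ℝ) ^ (M + 13) = a at *
    have h3 : A * (1 - (S + a)) ≤ 1 - S := by
      rcases le_or_gt 0 (1 - (S + a)) with h | h
      · nlinarith [mul_le_mul_of_nonneg_right hA h]
      · nlinarith [mul_nonneg (sub_nonneg.2 hA1) (neg_nonneg.2 h.le)]
    nlinarith [mul_le_mul_of_nonneg_left h3 hP]

theorem prod_afac_le (M : ℕ) : 16 * ∏ k ∈ range M, afac (k + 3) ≤ 292 / 5 := by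
  have hmono : ∏ k ∈ range M, afac (k + 3) ≤ ∏ k ∈ range (10 + M), afac (k + 3) :=
    prod_le_prod_of_subset_of_one_le (range_subset_range.2 (by omega))
      (fun k _ => zero_le_one.trans (one_le_afac (by omega))) fun k _ _ => one_le_afac (by omega)
  refine le_trans (mul_le_mul_of_nonneg_left hmono (by norm_num)) ?_
  rw [prod_range_add]
  have hh : ∏ k ∈ range 10, afac (k + 3) ≤ 3566 / 1000 := by
    simp only [prod_range_succ, prod_range_zero, afac]
    norm_num [show ¬Even 3 by decide, show Even 4 by decide, show ¬Even 5 by decide,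
      show Even 6 by decide, show ¬Even 7 by decide, show Even 8 by decide, show ¬Even 9 by decide,
      show Even 10 by decide, show ¬Even 11 by decide, show Even 12 by decide]
  have ht := prod_tail M
  have hS : ∑ k ∈ range M, 5 * (29 / 50 : ℝ) ^ (k + 13) ≤ 11 / 1000 := by
    simp only [pow_add, ← mul_assoc, ← sum_mul, ← mul_sum]
    have := CfsgLib.SpClassNum.geom_le (show (0 : ℝ) ≤ 29 / 50 by norm_num) (by norm_num) M
    norm_num at this ⊢
    linarith
  have hT0 : 0 ≤ ∏ k ∈ range M, afac (k + 13) :=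
    prod_nonneg fun k _ => zero_le_one.trans (one_le_afac (by omega))
  have hT : ∏ k ∈ range M, afac (k + 13) ≤ 1000 / 989 := by nlinarith
  simp only [show ∀ k, 10 + k + 3 = k + 13 from fun k => by omega]
  calc 16 * ((∏ k ∈ range 10, afac (k + 3)) * ∏ k ∈ range M, afac (k + 13))
      ≤ 16 * (3566 / 1000 * (1000 / 989)) := by gcongr
    _ ≤ _ := by norm_num

/-- The total weight of a profile of the block sizes at least `3`. -/
def lsum {M K : ℕ} (R : Fin M → Fin K) : ℕ := ∑ k : Fin M, dimw ((k : ℕ) + 3) (R k)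

/-- The weighted count of all data. -/
theorem profile_le {q : ℕ} (hq : 3 ≤ q) (n M K : ℕ) :
    5 * ∑ R ∈ univ.filter (fun R : Fin M → Fin K => lsum R ≤ 2 * n + 1),
      (∏ k : Fin M, opt q ((k : ℕ) + 3) (R k)) * fw q (2 * n + 1 - lsum R) ≤ 292 * q ^ n := by
  rw [← Nat.cast_le (α := ℝ)]
  push_cast
  have hq0 : (0 : ℝ) < q := by exact_mod_cast (show 0 < q by omega)
  set x : ℝ := 29 / 50 with hx
  have hx0 : 0 < x := by norm_num [hx]
  have hterm : ∀ R : Fin M → Fin K, lsum R ≤ 2 * n + 1 →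
      (∏ k : Fin M, (opt q ((k : ℕ) + 3) (R k) : ℝ)) * (fw q (2 * n + 1 - lsum R) : ℝ) ≤
        16 * (q : ℝ) ^ n * ∏ k : Fin M, gw ((k : ℕ) + 3) (R k) := by
    intro R hR
    set m : ℕ := ∑ k : Fin M, qexp ((k : ℕ) + 3) (R k) with hm
    have h2 : 2 * m ≤ lsum R := by
      rw [hm, mul_sum]; exact sum_le_sum fun k _ => two_qexp_le (by omega) _
    have hprod : (∏ k : Fin M, (opt q ((k : ℕ) + 3) (R k) : ℝ)) * x ^ (lsum R - 2 * m) ≤
        (∏ k : Fin M, gw ((k : ℕ) + 3) (R k)) * (q : ℝ) ^ m := by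
      rw [hm, ← prod_pow_eq_pow_sum, ← prod_mul_distrib, mul_sum, lsum,
        ← sum_tsub_distrib _ (fun k _ => two_qexp_le (by omega) _), ← prod_pow_eq_pow_sum,
        ← prod_mul_distrib]
      exact prod_le_prod (fun k _ => by positivity) fun k _ => opt_le hq (by omega) _
    -- the first two block sizes
    have hkey : (fw q (2 * n + 1 - lsum R) : ℝ) * (q : ℝ) ^ m ≤ 16 * (q : ℝ) ^ n * x ^ (lsum R - 2 * m) := by
      have hqx : (1 : ℝ) ≤ q * x ^ 2 := by
        have : (3 : ℝ) ≤ q := by exact_mod_cast hq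
        norm_num [hx]; linarith
      have hgeo : ∀ s, s ≤ n → m ≤ s → (q : ℝ) ^ (n - s) * (q : ℝ) ^ m ≤ (q : ℝ) ^ n * x ^ (2 * (s - m)) := by
        intro s hs hms
        rw [← pow_add, show (q : ℝ) ^ n = (q : ℝ) ^ (n - s + m) * (q : ℝ) ^ (s - m) by
          rw [← pow_add]; congr 1; omega, mul_assoc, pow_mul, ← mul_pow]
        exact le_mul_of_one_le_right (by positivity) (one_le_pow₀ hqx)
      rcases Nat.even_or_odd (lsum R) with ⟨s, hs⟩ | ⟨s, hs⟩
      · have hf : (fw q (2 * (n - s) + 1) : ℤ) ≤ _ := (fw_le hq (n - s)).1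
        have hf' : (fw q (2 * (n - s) + 1) : ℝ) ≤ 16 * (q : ℝ) ^ (n - s) := by exact_mod_cast hf
        rw [show 2 * n + 1 - lsum R = 2 * (n - s) + 1 by omega, show lsum R - 2 * m = 2 * (s - m) by omega]
        refine (mul_le_mul_of_nonneg_right hf' (by positivity)).trans ?_
        rw [mul_assoc, mul_assoc]
        exact mul_le_mul_of_nonneg_left (hgeo s (by omega) (by omega)) (by norm_num)
      · have hf : (fw q (2 * (n - s)) : ℤ) ≤ _ := (fw_le hq (n - s)).2
        have hf' : (fw q (2 * (n - s)) : ℝ) ≤ 8 * (q : ℝ) ^ (n - s) := by exact_mod_cast hf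
        rw [show 2 * n + 1 - lsum R = 2 * (n - s) by omega, show lsum R - 2 * m = 2 * (s - m) + 1 by omega,
          pow_succ]
        refine (mul_le_mul_of_nonneg_right hf' (by positivity)).trans ?_
        have := hgeo s (by omega) (by omega)
        have h8 : (8 : ℝ) ≤ 16 * x := by norm_num [hx]
        calc 8 * (q : ℝ) ^ (n - s) * (q : ℝ) ^ m = 8 * ((q : ℝ) ^ (n - s) * (q : ℝ) ^ m) := by ring
          _ ≤ 16 * x * ((q : ℝ) ^ n * x ^ (2 * (s - m))) := by gcongr
          _ = _ := by ring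
    have hxp : (0 : ℝ) < x ^ (lsum R - 2 * m) := pow_pos hx0 _
    refine le_of_mul_le_mul_right ?_ hxp
    calc _ = ((∏ k : Fin M, (opt q ((k : ℕ) + 3) (R k) : ℝ)) * x ^ (lsum R - 2 * m)) *
          (fw q (2 * n + 1 - lsum R) : ℝ) := by ring
      _ ≤ ((∏ k : Fin M, gw ((k : ℕ) + 3) (R k)) * (q : ℝ) ^ m) *
          (fw q (2 * n + 1 - lsum R) : ℝ) := mul_le_mul_of_nonneg_right hprod (Nat.cast_nonneg _)
      _ = (∏ k : Fin M, gw ((k : ℕ) + 3) (R k)) *
          ((fw q (2 * n + 1 - lsum R) : ℝ) * (q : ℝ) ^ m) := by ring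
      _ ≤ (∏ k : Fin M, gw ((k : ℕ) + 3) (R k)) * (16 * (q : ℝ) ^ n * x ^ (lsum R - 2 * m)) :=
          mul_le_mul_of_nonneg_left hkey (prod_nonneg fun k _ => gw_nonneg _ _)
      _ = _ := by ring
  refine (mul_le_mul_of_nonneg_left ((sum_le_sum fun R hR => hterm R (mem_filter.1 hR).2).trans
    (sum_le_sum_of_subset_of_nonneg (subset_univ _) fun R _ _ =>
      mul_nonneg (by positivity) (prod_nonneg fun k _ => gw_nonneg _ _))) (by norm_num)).trans ?_
  rw [← mul_sum, ← Fintype.prod_sum (fun (k : Fin M) (t : Fin K) => gw ((k : ℕ) + 3) t)]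
  have hs : ∏ k : Fin M, ∑ t : Fin K, gw ((k : ℕ) + 3) t ≤ ∏ k ∈ range M, afac (k + 3) := by
    rw [← Fin.prod_univ_eq_prod_range]
    refine prod_le_prod (fun k _ => sum_nonneg fun t _ => gw_nonneg _ _) fun k _ => ?_
    rw [Fin.sum_univ_eq_sum_range (fun t => gw ((k : ℕ) + 3) t)]
    exact sum_gw_le (by omega) K
  have hp := prod_afac_le M
  have hq' : (0 : ℝ) ≤ (q : ℝ) ^ n := by positivity
  nlinarith [mul_le_mul_of_nonneg_left hs hq', mul_le_mul_of_nonneg_left hp hq']

end CfsgLib.OrthClassNum
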