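import Cfsg.Agent.Lib.OrthClassNum.Split
import Cfsg.Agent.Lib.OrthClassNum.Total

/-!
The number of data of the classes of an orthogonal group of odd dimension.
-/

set_option autoImplicit false

namespace CfsgLib.OrthClassNum

open Finset Polynomial
open CfsgLib.SpClassNum (IsSR ClassData cnt e2 code code_lt code_inj exists_srSet)

variable {F : Type*} [Field F]

theorem IsUType.sum_eq {μ : Multiset ℕ} {N : ℕ} (h : μ.sum ≤ N) :
    μ.sum = ∑ i ∈ range (N + 1), i * μ.count i := by
  have hsub : μ.toFinset ⊆ range (N + 1) := fun j hj => mem_range.2 (by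
    have := Multiset.le_sum_of_mem (Multiset.mem_toFinset.1 hj); omega)
  rw [Finset.sum_multiset_count_of_subset _ _ hsub]
  exact sum_congr rfl fun i _ => by rw [smul_eq_mul, mul_comm]

/-- All blocks of a given size, at `1`, at `-1` and away from them. -/
noncomputable def num (x : ClassData F) (i : ℕ) : ℕ :=
  x.mu.count i + x.mu'.count i + (x.lbl i).natDegree

theorem Valid.weight_eq {N : ℕ} {x : ClassData F} (h : Valid N x) :
    ∑ i ∈ range (N + 1), i * num x i = N := by
  have hw := h.weight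
  rw [IsUType.sum_eq (μ := x.mu) (N := N) (by omega), IsUType.sum_eq (μ := x.mu') (N := N) (by omega)] at hw
  simp only [num, mul_add, sum_add_distrib]
  omega

/-- The parameter of a block size. -/
noncomputable def tot (x : ClassData F) (i : ℕ) : ℕ := if Even i then num x i / 2 else num x i

theorem Valid.even_num {N : ℕ} {x : ClassData F} (h : Valid N x) {i : ℕ} (hi : Even i) :
    Even (num x i) :=
  ((h.ut.even i hi).add (h.ut'.even i hi)).add (h.sr i).even

theorem Valid.dimw_tot {N : ℕ} {x : ClassData F} (h : Valid N x) (i : ℕ) :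
    dimw i (tot x i) = i * num x i := by
  unfold dimw tot
  split_ifs with hi
  · obtain ⟨c, hc⟩ := h.even_num hi
    rw [hc, show (c + c) / 2 = c by omega]
    ring
  · rfl

theorem Valid.natDegree_eq {N : ℕ} {x : ClassData F} (h : Valid N x) (i : ℕ) :
    (x.lbl i).natDegree = 2 * ((x.lbl i).natDegree / 2) := by
  obtain ⟨c, hc⟩ := (h.sr i).even
  omega

theorem Valid.zero_of_big {N : ℕ} {x : ClassData F} (h : Valid N x) {i : ℕ} (hi : N < i) :
    x.mu.count i = 0 ∧ x.mu'.count i = 0 := by
  have hw := h.weight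
  exact ⟨Multiset.count_eq_zero.2 fun hm => by have := Multiset.le_sum_of_mem hm; omega,
    Multiset.count_eq_zero.2 fun hm => by have := Multiset.le_sum_of_mem hm; omega⟩

theorem IsUType.sg_pos {μ : Multiset ℕ} {s : ℕ → Bool} (h : IsUType μ s) {j : ℕ} (hj : s j = true) :
    0 < μ.count j :=
  Multiset.count_pos.2 (h.sgn j hj).2

theorem IsUType.sg_even {μ : Multiset ℕ} {s : ℕ → Bool} (h : IsUType μ s) {j : ℕ} (hj : Even j) :
    s j = false :=
  Bool.eq_false_iff.2 fun h' => Nat.not_even_iff_odd.2 (h.sgn j h').1 hj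

/-- The code of a block size: the multiplicities and signs. -/
noncomputable def lcode (c₁ : ℕ → ℕ → Bool → Bool → ℕ) (x : ClassData F) (i : ℕ) : F[X] × ℕ :=
  (x.lbl i, if Even i then x.mu.count i / 2
    else if i = 1 then c₁ (x.mu.count i) (x.mu'.count i) (x.sg i) (x.sg' i)
    else code (x.mu.count i) (x.mu'.count i) (x.sg i) (x.sg' i))

variable [Fintype F]

open Classical in
/-- The data with a prescribed coding of the first block size are at most as many as the codes. -/
theorem card_data_le (h2 : (2 : F) ≠ 0) (e₁ : ℕ → ℕ) (c₁ : ℕ → ℕ → Bool → Bool → ℕ)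
    (ok : ℕ → ℕ → Bool → Bool → Prop)
    (hlt : ∀ a b s t, ok a b s t → c₁ a b s t < e₁ (a + b))
    (hci : ∀ a b s t a' b' s' t', ok a b s t → ok a' b' s' t' → a + b = a' + b' →
      c₁ a b s t = c₁ a' b' s' t' → a = a' ∧ b = b' ∧ s = s' ∧ t = t')
    (M : ℕ) {C : Type*} [Fintype C] (D : C → ClassData F) (hD : ∀ c, Valid (M + 2) (D c))
    (hok : ∀ c, ok ((D c).mu.count 1) ((D c).mu'.count 1) ((D c).sg 1) ((D c).sg' 1))
    (hinj : Function.Injective D) :
    Nat.card C ≤ ∑ R ∈ univ.filter (fun R : Fin M → Fin (M + 3) => lsum R ≤ M + 2),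
      (∏ k : Fin M, opt (Fintype.card F) ((k : ℕ) + 3) (R k)) *
        ∑ d ∈ range ((M + 2 - lsum R) / 4 + 1),
          Fintype.card F ^ d * wod e₁ (Fintype.card F) (M + 2 - lsum R - 4 * d) := by
  have hq : 2 ≤ Fintype.card F := Fintype.one_lt_card
  choose S hS hmem using exists_srSet (F := F) h2
  let sod : (ℕ → ℕ) → ℕ → Finset (F[X] × ℕ) := fun e t =>
    (range (t / 2 + 1)).biUnion fun d => S d ×ˢ range (e (t - 2 * d))
  let sev : ℕ → Finset (F[X] × ℕ) := fun t =>
    (range (t + 1)).biUnion fun d => S d ×ˢ range (t - d + 1)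
  have cod : ∀ e t, (sod e t).card ≤ wod e (Fintype.card F) t := fun e t => by
    refine card_biUnion_le.trans (sum_le_sum fun d _ => ?_)
    rw [card_product, card_range]
    exact Nat.mul_le_mul_right _ (hS d)
  have cev : ∀ t, (sev t).card ≤ wev (Fintype.card F) t := fun t => by
    refine card_biUnion_le.trans (sum_le_sum fun d _ => ?_)
    rw [card_product, card_range]
    exact Nat.mul_le_mul_right _ (hS d)
  let slot : ℕ → ℕ → Finset (F[X] × ℕ) := fun i t => if Even i then sev t else sod e2 t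
  have cslot : ∀ i t, (slot i t).card ≤ opt (Fintype.card F) i t := fun i t => by
    simp only [slot, opt]; split_ifs <;> [exact cev t; exact cod _ t]
  let K : Finset ((Fin M → Fin (M + 3)) × ℕ × (F[X] × ℕ) × (F[X] × ℕ) × (Fin M → F[X] × ℕ)) :=
    (univ.filter fun R : Fin M → Fin (M + 3) => lsum R ≤ M + 2).biUnion fun R =>
      (range ((M + 2 - lsum R) / 4 + 1)).biUnion fun d =>
        {R} ×ˢ ({d} ×ˢ (sod e₁ (M + 2 - lsum R - 4 * d) ×ˢ (sev d ×ˢ
          Fintype.piFinset fun k : Fin M => slot ((k : ℕ) + 3) (R k))))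
  have hK : K.card ≤ ∑ R ∈ univ.filter (fun R : Fin M → Fin (M + 3) => lsum R ≤ M + 2),
      (∏ k : Fin M, opt (Fintype.card F) ((k : ℕ) + 3) (R k)) *
        ∑ d ∈ range ((M + 2 - lsum R) / 4 + 1),
          Fintype.card F ^ d * wod e₁ (Fintype.card F) (M + 2 - lsum R - 4 * d) := by
    refine card_biUnion_le.trans (sum_le_sum fun R _ => ?_)
    rw [mul_sum]
    refine card_biUnion_le.trans (sum_le_sum fun d _ => ?_)
    simp only [card_product, card_singleton, one_mul, Fintype.card_piFinset]
    have h1 : (sev d).card ≤ Fintype.card F ^ d := (cev d).trans (by exact_mod_cast wev_le hq d)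
    rw [mul_comm (sev d).card, ← mul_assoc, mul_comm (sod e₁ _).card, mul_assoc, mul_comm (sod e₁ _).card]
    exact Nat.mul_le_mul (prod_le_prod (fun _ _ => Nat.zero_le _) fun k _ => cslot _ _)
      (Nat.mul_le_mul h1 (cod _ _))
  refine le_trans ?_ hK
  have hwt : ∀ c, num (D c) 1 + 4 * tot (D c) 2 +
      ∑ k : Fin M, dimw ((k : ℕ) + 3) (tot (D c) ((k : ℕ) + 3)) = M + 2 := by
    intro c
    conv_rhs => rw [← (hD c).weight_eq, sum_range_succ', sum_range_succ', sum_range_succ']
    simp only [zero_add, Nat.zero_mul, add_zero, one_mul, (hD c).dimw_tot]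
    rw [Fin.sum_univ_eq_sum_range (fun k => (k + 3) * num (D c) (k + 3))]
    have := (hD c).dimw_tot 2
    simp only [dimw, if_pos even_two] at this
    simp only [add_assoc, Nat.reduceAdd]
    omega
  have hbound : ∀ c (k : Fin M), tot (D c) ((k : ℕ) + 3) < M + 3 := by
    intro c k
    have h1 := single_le_sum (f := fun k : Fin M => dimw ((k : ℕ) + 3) (tot (D c) ((k : ℕ) + 3)))
      (fun _ _ => Nat.zero_le _) (mem_univ k)
    have h2 : tot (D c) ((k : ℕ) + 3) ≤ dimw ((k : ℕ) + 3) (tot (D c) ((k : ℕ) + 3)) := by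
      unfold dimw
      split_ifs
      · exact Nat.le_mul_of_pos_left _ (by omega)
      · exact Nat.le_mul_of_pos_left _ (by omega)
    have := hwt c
    omega
  let rest : C → Fin M → Fin (M + 3) := fun c k => ⟨tot (D c) ((k : ℕ) + 3), hbound c k⟩
  let key : C → (Fin M → Fin (M + 3)) × ℕ × (F[X] × ℕ) × (F[X] × ℕ) × (Fin M → F[X] × ℕ) := fun c =>
    (rest c, tot (D c) 2, lcode c₁ (D c) 1, lcode c₁ (D c) 2, fun k => lcode c₁ (D c) ((k : ℕ) + 3))
  have hev : ∀ c i, Even i → lcode c₁ (D c) i ∈ sev (tot (D c) i) := by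
    intro c i hi
    refine mem_biUnion.2 ⟨((D c).lbl i).natDegree / 2, mem_range.2 ?_, mem_product.2
      ⟨hmem _ _ ((hD c).sr i) ((hD c).natDegree_eq i), mem_range.2 ?_⟩⟩
    · simp only [tot, if_pos hi, num]; omega
    · simp only [lcode, tot, if_pos hi, num]
      obtain ⟨u, hu⟩ := (hD c).ut.even i hi
      obtain ⟨v, hv⟩ := (hD c).ut'.even i hi
      have := (hD c).natDegree_eq i
      omega
  have hod : ∀ c i (e : ℕ → ℕ) (cd : ℕ → ℕ → Bool → Bool → ℕ), ¬Even i →
      lcode c₁ (D c) i = ((D c).lbl i, cd ((D c).mu.count i) ((D c).mu'.count i) ((D c).sg i) ((D c).sg' i)) →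
      cd ((D c).mu.count i) ((D c).mu'.count i) ((D c).sg i) ((D c).sg' i) <
        e ((D c).mu.count i + (D c).mu'.count i) →
      lcode c₁ (D c) i ∈ sod e (tot (D c) i) := by
    intro c i e cd hi heq hcd
    have := (hD c).natDegree_eq i
    rw [heq]
    refine mem_biUnion.2 ⟨((D c).lbl i).natDegree / 2, mem_range.2 ?_, mem_product.2
      ⟨hmem _ _ ((hD c).sr i) this, mem_range.2 ?_⟩⟩
    · simp only [tot, if_neg hi, num]; omega
    · simp only [tot, if_neg hi, num]
      rwa [show (D c).mu.count i + (D c).mu'.count i + ((D c).lbl i).natDegree -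
        2 * (((D c).lbl i).natDegree / 2) = (D c).mu.count i + (D c).mu'.count i by omega]
  have hl : ∀ c, lsum (rest c) + num (D c) 1 + 4 * tot (D c) 2 = M + 2 := fun c => by
    have := hwt c; simp only [lsum, rest]; omega
  rw [Nat.card_eq_fintype_card, ← Finset.card_univ]
  refine card_le_card_of_injOn key (fun c _ => ?_) fun c _ c' _ hcc => hinj ?_
  · have := hl c
    refine mem_biUnion.2 ⟨rest c, mem_filter.2 ⟨mem_univ _, by omega⟩, mem_biUnion.2
      ⟨tot (D c) 2, mem_range.2 (by omega), mem_product.2 ⟨mem_singleton_self _, mem_product.2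
        ⟨mem_singleton_self _, mem_product.2 ⟨?_, mem_product.2 ⟨hev c 2 even_two,
          Fintype.mem_piFinset.2 fun k => ?_⟩⟩⟩⟩⟩⟩
    · rw [show M + 2 - lsum (rest c) - 4 * tot (D c) 2 = tot (D c) 1 by
        have e1 : tot (D c) 1 = num (D c) 1 := if_neg Nat.not_even_one
        omega]
      exact hod c 1 e₁ c₁ Nat.not_even_one
        (by simp only [lcode, if_neg Nat.not_even_one, if_true]) (hlt _ _ _ _ (hok c))
    · show lcode c₁ (D c) ((k : ℕ) + 3) ∈ slot ((k : ℕ) + 3) (tot (D c) ((k : ℕ) + 3))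
      simp only [slot]
      split_ifs with hk
      · exact hev c _ hk
      · exact hod c _ e2 code hk
          (by simp only [lcode, if_neg hk, if_neg (show ¬((k : ℕ) + 3 = 1) by omega)])
          (code_lt ((hD c).ut.sg_pos) ((hD c).ut'.sg_pos))
  · simp only [key, Prod.mk.injEq] at hcc
    obtain ⟨hR, hd, h1, hd2, hk⟩ := hcc
    have hboth : ∀ i, 1 ≤ i → i ≤ M + 2 → tot (D c) i = tot (D c') i ∧
        lcode c₁ (D c) i = lcode c₁ (D c') i := by
      intro i hi hiM
      obtain rfl | rfl | h3 : i = 1 ∨ i = 2 ∨ 3 ≤ i := by omega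
      · refine ⟨?_, h1⟩
        have := hl c
        have := hl c'
        rw [hR] at *
        simp only [tot, if_neg Nat.not_even_one] at *
        omega
      · exact ⟨hd, hd2⟩
      · obtain ⟨k, rfl⟩ : ∃ k, i = k + 3 := ⟨i - 3, by omega⟩
        exact ⟨congrArg Fin.val (congrFun hR ⟨k, by omega⟩), congrFun hk ⟨k, by omega⟩⟩
    have hall : ∀ i, (D c).mu.count i = (D c').mu.count i ∧ (D c).mu'.count i = (D c').mu'.count i ∧
        (D c).sg i = (D c').sg i ∧ (D c).sg' i = (D c').sg' i ∧ (D c).lbl i = (D c').lbl i := by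
      intro i
      have hz : ∀ d : C, ((D d).mu.count i = 0 → (D d).sg i = false) ∧
          ((D d).mu'.count i = 0 → (D d).sg' i = false) := fun d =>
        ⟨fun h => Bool.eq_false_iff.2 fun h' => by have := (hD d).ut.sg_pos h'; omega,
          fun h => Bool.eq_false_iff.2 fun h' => by have := (hD d).ut'.sg_pos h'; omega⟩
      rcases Nat.eq_zero_or_pos i with rfl | hi
      · have e : ∀ d, (D d).mu.count 0 = 0 ∧ (D d).mu'.count 0 = 0 := fun d =>
          ⟨Multiset.count_eq_zero.2 fun h => Nat.lt_irrefl 0 ((hD d).ut.pos 0 h),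
            Multiset.count_eq_zero.2 fun h => Nat.lt_irrefl 0 ((hD d).ut'.pos 0 h)⟩
        simp [(e c).1, (e c').1, (e c).2, (e c').2, (hz c).1, (hz c').1, (hz c).2, (hz c').2,
          (hD c).zero, (hD c').zero]
      by_cases hiM : M + 2 < i
      · have e := fun d => (hD d).zero_of_big hiM
        simp [(e c).1, (e c').1, (e c).2, (e c').2, (hz c).1, (hz c').1, (hz c).2, (hz c').2,
          (hD c).big i hiM, (hD c').big i hiM]
      obtain ⟨ht, hc⟩ := hboth i hi (not_lt.1 hiM)
      simp only [lcode, Prod.mk.injEq] at hc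
      obtain ⟨hlbl, hcode⟩ := hc
      have := (hD c).natDegree_eq i
      simp only [tot, num, ← hlbl] at ht
      by_cases hev' : Even i
      · simp only [if_pos hev'] at ht hcode
        obtain ⟨u, hu⟩ := (hD c).ut.even i hev'
        obtain ⟨v, hv⟩ := (hD c).ut'.even i hev'
        obtain ⟨u', hu'⟩ := (hD c').ut.even i hev'
        obtain ⟨v', hv'⟩ := (hD c').ut'.even i hev'
        exact ⟨by omega, by omega, ((hD c).ut.sg_even hev').trans ((hD c').ut.sg_even hev').symm,
          ((hD c).ut'.sg_even hev').trans ((hD c').ut'.sg_even hev').symm, hlbl⟩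
      · simp only [if_neg hev'] at ht hcode
        by_cases hi1 : i = 1
        · subst hi1
          simp only [if_true] at hcode
          obtain ⟨a, b, s, t⟩ := hci _ _ _ _ _ _ _ _ (hok c) (hok c') (by omega) hcode
          exact ⟨a, b, s, t, hlbl⟩
        · simp only [if_neg hi1] at hcode
          obtain ⟨a, b, s, t⟩ := code_inj (hD c).ut.sg_pos (hD c).ut'.sg_pos (hD c').ut.sg_pos
            (hD c').ut'.sg_pos (by omega) hcode
          exact ⟨a, b, s, t, hlbl⟩
    generalize D c = u, D c' = u' at *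
    obtain ⟨_, _, _, _, _⟩ := u
    obtain ⟨_, _, _, _, _⟩ := u'
    simp only [ClassData.mk.injEq]
    exact ⟨Multiset.ext.2 fun i => (hall i).1, funext fun i => (hall i).2.2.1,
      Multiset.ext.2 fun i => (hall i).2.1, funext fun i => (hall i).2.2.2.1,
      funext fun i => (hall i).2.2.2.2⟩

/-- The code of two multiplicities at most one with equal signs. -/
def code3 (a b : ℕ) (s t : Bool) : ℕ :=
  if a = 1 ∧ b = 1 then (if s then 1 else 0) else code a b s t

/-- The condition satisfied by the data of the split classes. -/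
structure Restr (a b : ℕ) (s t : Bool) : Prop where
  a_le : a ≤ 1
  b_le : b ≤ 1
  same : a = 1 → b = 1 → s = t
  hs : s = true → 0 < a
  ht : t = true → 0 < b

open Classical in
/-- All data plus three times the restricted data: the bound. -/
theorem card_data_add_le (h2 : (2 : F) ≠ 0) (hq : 3 ≤ Fintype.card F) {n : ℕ} (hn : 1 ≤ n)
    {C C' : Type*} [Fintype C] [Fintype C'] (D : C → ClassData F) (D' : C' → ClassData F)
    (hD : ∀ c, Valid (2 * n + 1) (D c)) (hD' : ∀ c, Valid (2 * n + 1) (D' c))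
    (hinj : Function.Injective D) (hinj' : Function.Injective D')
    (hres : ∀ c, Restr ((D' c).mu.count 1) ((D' c).mu'.count 1) ((D' c).sg 1) ((D' c).sg' 1)) :
    5 * (Nat.card C + 3 * Nat.card C') ≤ 292 * Fintype.card F ^ n := by
  obtain ⟨M, hM⟩ : ∃ M, 2 * n + 1 = M + 2 := ⟨2 * n - 1, by omega⟩
  have h := card_data_le h2 e2 code (fun a b s t => (s = true → 0 < a) ∧ (t = true → 0 < b))
    (fun a b s t h => code_lt h.1 h.2)
    (fun a b s t a' b' s' t' h h' e ec => code_inj h.1 h.2 h'.1 h'.2 e ec) M D (hM ▸ hD)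
    (fun c => ⟨(hD c).ut.sg_pos, (hD c).ut'.sg_pos⟩) hinj
  have h' := card_data_le h2 e3 code3 Restr
    (fun a b s t h => by
      obtain ⟨ha, hb, hst, hs, ht⟩ := h
      interval_cases a <;> interval_cases b <;> cases s <;> cases t <;>
        simp_all [code3, code, e3])
    (fun a b s t a' b' s' t' h h' e ec => by
      obtain ⟨ha, hb, hst, hs, ht⟩ := h
      obtain ⟨ha', hb', hst', hs', ht'⟩ := h'
      interval_cases a <;> interval_cases b <;> interval_cases a' <;> interval_cases b' <;>
        simp_all [code3, code] <;> cases s <;> cases t <;> cases s' <;> cases t' <;> simp_all)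
    M D' (hM ▸ hD') hres hinj'
  refine le_trans ?_ (profile_le hq n M (M + 3))
  refine Nat.mul_le_mul_left 5 ((Nat.add_le_add h (Nat.mul_le_mul_left 3 h')).trans ?_)
  rw [mul_sum, ← sum_add_distrib, hM]
  refine le_of_eq (sum_congr rfl fun R _ => ?_)
  simp only [fw, uw, mul_add, sum_add_distrib, mul_sum]
  exact congrArg₂ (· + ·) rfl (sum_congr rfl fun d _ => by ring)

end CfsgLib.OrthClassNum
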