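import Mathlib

/-!
The class number of the kernel of a sign character: twice it is the class number of the group plus
three times the number of split classes.
-/

set_option autoImplicit false

namespace CfsgLib.OrthClassNum

open Finset

variable {G : Type*} [Group G]

/-- An element whose centraliser lies in the kernel. -/
def IsSplitElt (φ : G →* ℤˣ) (a : G) : Prop := ∀ b, Commute a b → φ b = 1

/-- A class consisting of such elements. -/
def IsSplitClass (φ : G →* ℤˣ) (k : ConjClasses G) : Prop :=
  ∃ a, ConjClasses.mk a = k ∧ IsSplitElt φ a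

theorem IsSplitElt.of_isConj {φ : G →* ℤˣ} {a a' : G} (h : IsSplitElt φ a) (hc : IsConj a a') :
    IsSplitElt φ a' := by
  obtain ⟨c, rfl⟩ := isConj_iff.1 hc
  intro b hb
  have h' : Commute a (c⁻¹ * b * c) := by
    show a * (c⁻¹ * b * c) = c⁻¹ * b * c * a
    calc a * (c⁻¹ * b * c) = c⁻¹ * ((c * a * c⁻¹) * b) * c := by group
      _ = c⁻¹ * (b * (c * a * c⁻¹)) * c := by rw [hb.eq]
      _ = c⁻¹ * b * c * a := by group
  have := h _ h'
  rwa [map_mul, map_mul, map_inv, mul_comm (φ c)⁻¹, inv_mul_cancel_right] at this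

variable [Finite G]

open Classical in
theorem two_mul_classes_ker (φ : G →* ℤˣ) (hφ : Function.Surjective φ) :
    2 * Nat.card (ConjClasses ↥φ.ker) =
      Nat.card (ConjClasses G) + 3 * Nat.card {k : ConjClasses G // IsSplitClass φ k} := by
  haveI := Fintype.ofFinite G
  let K : Finset G := univ.filter fun a => φ a = 1
  let cz : G → Finset G := fun a => univ.filter fun b => Commute a b
  let S : Finset G := univ.filter (IsSplitElt φ)
  -- cardinalities
  have hG : ∑ a, (cz a).card = Nat.card (ConjClasses G) * Nat.card G := by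
    rw [← card_comm_eq_card_conjClasses_mul_card, Nat.card_congr (Equiv.subtypeProdEquivSigmaSubtype Commute),
      Nat.card_sigma]
    exact sum_congr rfl fun a _ => by rw [Nat.card_eq_fintype_card, Fintype.card_subtype]
  have hN : ∑ a ∈ K, ((cz a).filter fun b => φ b = 1).card =
      Nat.card (ConjClasses ↥φ.ker) * Nat.card ↥φ.ker := by
    rw [← card_comm_eq_card_conjClasses_mul_card, Nat.card_congr (Equiv.subtypeProdEquivSigmaSubtype Commute),
      Nat.card_sigma, Finset.sum_subtype K (p := fun a => a ∈ φ.ker) (fun a => by simp [K, MonoidHom.mem_ker])]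
    refine sum_congr rfl fun a _ => ?_
    rw [Nat.card_eq_fintype_card, Fintype.card_subtype]
    refine Eq.symm ?_
    refine card_bij (fun b _ => (b : G)) ?_ ?_ ?_
    · intro b hb
      simp only [cz, mem_filter, mem_univ, true_and] at hb ⊢
      exact ⟨congrArg Subtype.val hb, b.2⟩
    · intro b _ b' _ h; exact Subtype.ext h
    · intro b hb
      simp only [cz, mem_filter, mem_univ, true_and] at hb
      exact ⟨⟨b, hb.2⟩, mem_filter.2 ⟨mem_univ _, Subtype.ext hb.1⟩, rfl⟩
  have hhalf : ∀ a, a ∉ S → 2 * ((cz a).filter fun b => φ b = 1).card = (cz a).card := by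
    intro a ha
    simp only [S, mem_filter, mem_univ, true_and, IsSplitElt, not_forall] at ha
    obtain ⟨t, ht, htφ⟩ := ha
    have ht' : φ t = -1 := (Int.units_eq_one_or (φ t)).resolve_left htφ
    have hbij : ((cz a).filter fun b => φ b = 1).card = ((cz a).filter fun b => ¬φ b = 1).card := by
      refine card_bij (fun b _ => t * b) ?_ (fun b _ b' _ h => mul_left_cancel h) ?_
      · intro b hb
        simp only [cz, mem_filter, mem_univ, true_and] at hb ⊢
        exact ⟨ht.mul_right hb.1, by rw [map_mul, hb.2, ht', mul_one]; decide⟩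
      · intro b hb
        simp only [cz, mem_filter, mem_univ, true_and] at hb
        refine ⟨t⁻¹ * b, ?_, mul_inv_cancel_left _ _⟩
        simp only [cz, mem_filter, mem_univ, true_and]
        exact ⟨ht.inv_right.mul_right hb.1, by
          rw [map_mul, map_inv, (Int.units_eq_one_or (φ b)).resolve_left hb.2, ht', inv_mul_cancel]⟩
    have := card_filter_add_card_filter_not (s := cz a) (fun b => φ b = 1)
    omega
  have hfull : ∀ a ∈ S, ((cz a).filter fun b => φ b = 1) = cz a ∧ a ∈ K := by
    intro a ha
    simp only [S, mem_filter, mem_univ, true_and] at ha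
    refine ⟨filter_true_of_mem fun b hb => ha b (by simpa [cz] using hb), ?_⟩
    simp only [K, mem_filter, mem_univ, true_and]
    exact ha a (Commute.refl a)
  have hS : ∑ a ∈ S, (cz a).card =
      Nat.card {k : ConjClasses G // IsSplitClass φ k} * Nat.card G := by
    rw [← sum_fiberwise_of_maps_to (t := univ.filter (IsSplitClass φ)) (g := ConjClasses.mk)
      (fun a ha => mem_filter.2 ⟨mem_univ _, a, rfl, (mem_filter.1 ha).2⟩),
      Nat.card_eq_fintype_card, Fintype.card_subtype, ← smul_eq_mul, ← sum_const]
    refine sum_congr rfl fun k hk => ?_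
    obtain ⟨a₀, hk0, ha₀⟩ := (mem_filter.1 hk).2
    have hcl : S.filter (fun a => ConjClasses.mk a = k) = univ.filter (fun a => IsConj a₀ a) := by
      ext a
      simp only [S, mem_filter, mem_univ, true_and, ← hk0, ConjClasses.mk_eq_mk_iff_isConj]
      exact ⟨fun h => h.2.symm, fun h => ⟨ha₀.of_isConj h, h.symm⟩⟩
    have hcst : ∀ a, IsConj a₀ a → (cz a).card = (cz a₀).card := by
      intro a hc
      obtain ⟨c, rfl⟩ := isConj_iff.1 hc
      refine (card_bij (fun b _ => c * b * c⁻¹) ?_ ?_ ?_).symm
      · intro b hb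
        simp only [cz, mem_filter, mem_univ, true_and] at hb ⊢
        exact hb.map (MulAut.conj c).toMonoidHom
      · intro b _ b' _ h; exact mul_left_cancel (mul_right_cancel h)
      · intro b hb
        simp only [cz, mem_filter, mem_univ, true_and] at hb
        refine ⟨c⁻¹ * b * c, ?_, by group⟩
        simp only [cz, mem_filter, mem_univ, true_and]
        simpa [mul_assoc] using hb.map (MulAut.conj c⁻¹).toMonoidHom
    rw [hcl, sum_congr rfl fun a ha => hcst a (mem_filter.1 ha).2, sum_const, smul_eq_mul]
    have h1 : Nat.card (MulAction.orbit (ConjAct G) a₀) = (univ.filter fun a => IsConj a₀ a).card := by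
      rw [ConjAct.orbit_eq_carrier_conjClasses, Nat.card_eq_fintype_card, ← Set.toFinset_card]
      congr 1
      ext a
      simp only [Set.mem_toFinset, ConjClasses.mem_carrier_iff_mk_eq, mem_filter, mem_univ, true_and,
        ConjClasses.mk_eq_mk_iff_isConj]
      exact ⟨fun h => h.symm, fun h => h.symm⟩
    have h2 : Nat.card (MulAction.stabilizer (ConjAct G) a₀) = (cz a₀).card := by
      rw [← Fintype.card_subtype, ← Nat.card_eq_fintype_card]
      refine Nat.card_congr (ConjAct.ofConjAct.toEquiv.subtypeEquiv fun b => ?_)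
      show b ∈ MulAction.stabilizer (ConjAct G) a₀ ↔ a₀ * ConjAct.ofConjAct b = ConjAct.ofConjAct b * a₀
      rw [MulAction.mem_stabilizer_iff, ConjAct.smul_def, mul_inv_eq_iff_eq_mul]
      exact eq_comm
    rw [← h1, ← h2, ← Nat.card_prod]
    exact Nat.card_congr (MulAction.orbitProdStabilizerEquivGroup (ConjAct G) a₀) |>.trans
      (Nat.card_congr ConjAct.ofConjAct.toEquiv)
  -- the two ways of counting the mixed pairs
  have hswap : ∑ a ∈ K, ((cz a).filter fun b => ¬φ b = 1).card =
      ∑ a ∈ univ.filter (fun a => ¬φ a = 1), ((cz a).filter fun b => φ b = 1).card := by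
    have e1 : ∀ a, ((cz a).filter fun b => ¬φ b = 1) =
        (univ.filter fun b => ¬φ b = 1).filter (Commute a) := fun a => by simp only [cz]; exact filter_comm ..
    have e2 : ∀ a, ((cz a).filter fun b => φ b = 1) = K.filter (Commute a) := fun a => by
      simp only [cz, K]; exact filter_comm ..
    simp only [e1, e2, card_filter]
    rw [sum_comm]
    exact sum_congr rfl fun b _ => sum_congr rfl fun a _ => if_congr ⟨Commute.symm, Commute.symm⟩ rfl rfl
  have hKS : K.filter (fun a => a ∈ S) = S := by
    ext a; simp only [mem_filter]; exact ⟨fun h => h.2, fun h => ⟨(hfull a h).2, h⟩⟩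
  have hsplitK := sum_filter_add_sum_filter_not K (fun a => a ∈ S) fun a => (cz a).card
  have hsplitK' := sum_filter_add_sum_filter_not K (fun a => a ∈ S)
    fun a => ((cz a).filter fun b => φ b = 1).card
  have hsplitKc := sum_filter_add_sum_filter_not K (fun a => a ∈ S)
    fun a => ((cz a).filter fun b => ¬φ b = 1).card
  have hsplitG := sum_filter_add_sum_filter_not (univ : Finset G) (fun a => φ a = 1) fun a => (cz a).card
  rw [hKS] at hsplitK hsplitK' hsplitKc
  have hA : 2 * ∑ a ∈ K.filter (fun a => ¬a ∈ S), ((cz a).filter fun b => φ b = 1).card =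
      ∑ a ∈ K.filter (fun a => ¬a ∈ S), (cz a).card := by
    rw [mul_sum]; exact sum_congr rfl fun a ha => hhalf a (mem_filter.1 ha).2
  have hA' : 2 * ∑ a ∈ K.filter (fun a => ¬a ∈ S), ((cz a).filter fun b => ¬φ b = 1).card =
      ∑ a ∈ K.filter (fun a => ¬a ∈ S), (cz a).card := by
    rw [mul_sum]
    refine sum_congr rfl fun a ha => ?_
    have := hhalf a (mem_filter.1 ha).2
    have := card_filter_add_card_filter_not (s := cz a) (fun b => φ b = 1)
    omega
  have hB : 2 * ∑ a ∈ univ.filter (fun a => ¬φ a = 1), ((cz a).filter fun b => φ b = 1).card =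
      ∑ a ∈ univ.filter (fun a => ¬φ a = 1), (cz a).card := by
    rw [mul_sum]
    refine sum_congr rfl fun a ha => hhalf a fun h => (mem_filter.1 ha).2 ?_
    simpa [K] using (hfull a h).2
  have hS0 : ∑ a ∈ S, ((cz a).filter fun b => ¬φ b = 1).card = 0 :=
    sum_eq_zero fun a ha => card_eq_zero.2 (filter_eq_empty_iff.2 fun b hb hne => hne
      ((mem_filter.1 ha).2 b (by simpa [cz] using hb)))
  have hS1 : ∑ a ∈ S, ((cz a).filter fun b => φ b = 1).card = ∑ a ∈ S, (cz a).card :=
    sum_congr rfl fun a ha => by rw [(hfull a ha).1]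
  have hidx : Nat.card G = 2 * Nat.card ↥φ.ker := by
    rw [← Subgroup.index_mul_card φ.ker, Subgroup.index_ker, MonoidHom.range_eq_top.2 hφ, Subgroup.card_top,
      Nat.card_eq_fintype_card, Fintype.card_units_int]
  have hmain : 2 * (Nat.card (ConjClasses ↥φ.ker) * Nat.card G) =
      Nat.card (ConjClasses G) * Nat.card G +
        3 * (Nat.card {k : ConjClasses G // IsSplitClass φ k} * Nat.card G) := by
    rw [← hS, ← hG, hidx, show Nat.card (ConjClasses ↥φ.ker) * (2 * Nat.card ↥φ.ker) =
      2 * (Nat.card (ConjClasses ↥φ.ker) * Nat.card ↥φ.ker) by ring, ← hN]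
    show 2 * (2 * ∑ a ∈ K, ((cz a).filter fun b => φ b = 1).card) = _
    simp only [K] at hsplitK hsplitK' hsplitKc hswap hA hA' ⊢
    omega
  have hpos : 0 < Nat.card G := Nat.card_pos
  refine Nat.eq_of_mul_eq_mul_right hpos ?_
  rw [add_mul, mul_assoc, mul_assoc]
  exact hmain

end CfsgLib.OrthClassNum
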