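import Cfsg.Agent.Lib.SpClassNum.Label
import Cfsg.Agent.Lib.OrthClassNum.Unip

/-!
Isometries of symmetric forms without eigenvalues `±1`: the label is self-reciprocal and determines
the class.
-/

set_option autoImplicit false

namespace CfsgLib.OrthClassNum

open Polynomial CfsgLib.ClassNum
open CfsgLib.SpClassNum (IsSR IsLData recip_label isSR_of_recip exists_kernel_vec
  exists_centraliser_congr_of_sym)

variable {F : Type*} [Field F]

variable {V : Type*} [AddCommGroup V] [Module F V]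

/-- An isometry without eigenvalues `±1` has a self-reciprocal label. -/
theorem exists_ldata [FiniteDimensional F V] (h2 : (2 : F) ≠ 0) {B : V →ₗ[F] V →ₗ[F] F}
    {G : V ≃ₗ[F] V} (h : IsIsom B G) (h1 : ∀ v, G v = v → v = 0) (hn : ∀ v, G v = -v → v = 0) :
    ∃ v : ℕ → F[X], (∀ i, IsSR (v i)) ∧ v 0 = 1 ∧ (∀ i, Module.finrank F V < i → v i = 1) ∧
      (∑ i ∈ Finset.range (Module.finrank F V + 1), i * (v i).natDegree = Module.finrank F V) ∧
      IsLData G v := by
  classical
  set k := Module.finrank F V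
  let e : V ≃ₗ[F] (Fin k → F) := (Module.finBasis F V).equivFun
  let M : Matrix (Fin k) (Fin k) F := LinearMap.toMatrix' (e.toLinearMap ∘ₗ G.toLinearMap ∘ₗ e.symm.toLinearMap)
  have hM : ∀ x, e (G x) = M.mulVec (e x) := fun x => by
    rw [LinearMap.toMatrix'_mulVec]; simp
  have hMu : IsUnit M.det := by
    rw [← Matrix.isUnit_iff_isUnit_det, ← Matrix.mulVec_injective_iff_isUnit]
    intro x y hxy
    obtain ⟨x, rfl⟩ := e.surjective x
    obtain ⟨y, rfl⟩ := e.surjective y
    rw [← hM, ← hM] at hxy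
    rw [G.injective (e.injective hxy)]
  let Be := B.compl₁₂ e.symm.toLinearMap e.symm.toLinearMap
  let J : Matrix (Fin k) (Fin k) F := LinearMap.toMatrix₂' F Be
  have hJ : IsUnit J.det := by
    rw [isUnit_iff_ne_zero]
    intro h0
    obtain ⟨v, hv0, hv⟩ := Matrix.exists_mulVec_eq_zero_iff.2 h0
    refine hv0 (e.symm.map_eq_zero_iff.1 (h.nondeg _ fun w => ?_))
    obtain ⟨u, rfl⟩ := e.symm.surjective w
    have : B (e.symm u) (e.symm v) = dotProduct u (J.mulVec v) := by
      rw [← Matrix.toLinearMap₂'_apply', Matrix.toLinearMap₂'_toMatrix']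
      rfl
    rw [h.symm, this, hv, dotProduct_zero]
  have hinv : M.transpose * J * M = J := by
    rw [← LinearMap.toMatrix₂'_compl₁₂]
    congr 1
    exact LinearMap.ext₂ fun x y => by simp [Be, h.inv]
  obtain ⟨D⟩ := exists_decomp M
  have hl := lab_isLabel (g := M) hMu.ne_zero
  rw [lab_eq D] at hl
  have root : ∀ j (ε : F), ε * ε = 1 → (D.p j).eval ε ≠ 0 := by
    intro j ε hε hroot
    have hp : D.p j = X - C ε := (eq_of_monic_of_associated (monic_X_sub_C ε) (D.monic j)
      ((irreducible_X_sub_C ε).associated_of_dvd (D.irred j) (dvd_iff_isRoot.2 hroot))).symm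
    obtain ⟨x, hx0, hx⟩ := exists_kernel_vec D j
    refine hx0 (e.symm.map_eq_zero_iff.1 ?_)
    obtain ⟨z, rfl⟩ := e.surjective x
    rw [e.symm_apply_apply]
    rw [hp, map_sub, aeval_X, aeval_C, Matrix.sub_mulVec, sub_eq_zero, ← hM,
      Algebra.algebraMap_eq_smul_one, Matrix.smul_mulVec, Matrix.one_mulVec, ← map_smul] at hx
    rcases mul_self_eq_one_iff.1 hε with rfl | rfl
    · exact h1 z (by simpa using e.injective hx)
    · exact hn z (by simpa using e.injective hx)
  refine ⟨D.label, fun i => isSR_of_recip h2 (hl.monic i) (recip_label D J hJ hMu hinv i)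
    (hl.coeff_zero i) ?_ ?_, hl.at_zero, hl.at_big, hl.weight, k, e, M, hM, lab_eq D⟩
  all_goals
    show eval _ (∏ j ∈ Finset.univ.filter (fun j => D.e j = i), D.p j) ≠ 0
    rw [eval_prod]
    exact Finset.prod_ne_zero_iff.2 fun j _ => root j _ (by norm_num)

/-- Isometries without eigenvalues `±1` with the same label are isometric. -/
theorem ldata_intertwine [Finite F] (h2 : (2 : F) ≠ 0) [FiniteDimensional F V] {V' : Type*}
    [AddCommGroup V'] [Module F V'] [FiniteDimensional F V']
    {B : V →ₗ[F] V →ₗ[F] F} {G : V ≃ₗ[F] V} {B' : V' →ₗ[F] V' →ₗ[F] F} {G' : V' ≃ₗ[F] V'}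
    (h : IsIsom B G) (h' : IsIsom B' G') (h1 : ∀ v, G v = v → v = 0) (hn : ∀ v, G v = -v → v = 0)
    (hdim : Module.finrank F V = Module.finrank F V') {v : ℕ → F[X]}
    (hd : IsLData G v) (hd' : IsLData G' v) :
    ∃ T : V ≃ₗ[F] V', (∀ x, T (G x) = G' (T x)) ∧ ∀ x y, B' (T x) (T y) = B x y := by
  obtain ⟨k, e, M, he, hv⟩ := hd
  obtain ⟨k', e', M', he', hv'⟩ := hd'
  obtain rfl : k = k' := by
    rw [e.finrank_eq, e'.finrank_eq, Module.finrank_fin_fun, Module.finrank_fin_fun] at hdim
    exact hdim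
  obtain ⟨T₀, hT₀⟩ := Decomp.exists_intertwine (exists_decomp M).some (exists_decomp M').some
    (hv.trans hv'.symm)
  let L : V ≃ₗ[F] V' := e.trans (T₀.trans e'.symm)
  have hL : ∀ x, L (G x) = G' (L x) := fun x => by
    apply e'.injective
    simp [L, he, he', hT₀]
  obtain ⟨T, hT, hTB⟩ := exists_centraliser_congr_of_sym h2 (B'.compl₁₂ L.toLinearMap L.toLinearMap) B
    1 (fun x y => by rw [one_mul]; exact h'.symm _ _)
    (fun x hx => L.map_eq_zero_iff.1 (h'.nondeg _ fun w => by
      obtain ⟨w, rfl⟩ := L.surjective w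
      exact hx w))
    (fun x y => by rw [one_mul]; exact h.symm _ _) h.nondeg G (fun x y => by simp [hL, h'.inv]) h.inv h1 hn
  exact ⟨T.trans L, fun x => by simp [hT, hL], fun x y => hTB x y⟩

end CfsgLib.OrthClassNum
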