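import Cfsg.Agent.Lib.OrthClassNum.Odd
import Cfsg.Agent.Lib.OClassNum.Lower

/-!
At least `q^n` classes of isometries of determinant one in dimension `2n+1`.
-/

set_option autoImplicit false

namespace CfsgLib.OrthClassNum

open Polynomial Matrix Cfsg
open CfsgLib.Classical.Quad (NDPolar)

variable {F : Type*} [Field F] [Fintype F]

theorem det_sq_of_congr {ι : Type*} [Fintype ι] [DecidableEq ι] {A D : Matrix ι ι F} (hD : D.det ≠ 0)
    (h : Aᵀ * D * A = D) : A.det = 1 ∨ A.det = -1 := by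
  have hd := congrArg Matrix.det h
  rw [det_mul, det_mul, det_transpose] at hd
  exact sq_eq_one_iff.1 (mul_right_cancel₀ hD (by linear_combination hd))

/-- Every monic polynomial of degree `n` gives an element of determinant one. -/
theorem exists_odd_elem (h2 : (2 : F) ≠ 0) {ι : Type*} [Fintype ι] [DecidableEq ι] {n : ℕ} (hn : 1 ≤ n)
    (hι : Fintype.card ι = 2 * n + 1) {D : Matrix ι ι F} (hD : Dᵀ = D) (hDu : D.det ≠ 0) {h : F[X]}
    (hm : h.Monic) (hd : h.natDegree = n) :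
    ∃ (A A' : Matrix ι ι F) (τ : Bool), A * A' = 1 ∧ Aᵀ * D * A = D ∧ A.det = 1 ∧
      (A + A').charpoly = (X - C (if τ then -2 else 2)) * h ^ 2 := by
  classical
  set s : F := (-1) ^ n * h.eval 2 * h.eval (-2)
  let r : F := if s = 0 then 1 else s
  have hr0 : r ≠ 0 := by simp only [r]; split_ifs with hs <;> [exact one_ne_zero; exact hs]
  let K := Fin 1 ⊕ Fin (2 * n - 1)
  let dv : K → F := Sum.elim (fun _ => r) (fun _ => 1)
  let D₀ : Matrix K K F := diagonal dv
  have hD₀d : D₀.det = r := by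
    rw [det_diagonal, Fintype.prod_sum_type]
    simp [dv]
  obtain ⟨A₀, A₀', hA₀, hA₀Q, hc₀⟩ := CfsgLib.OClassNum.exists_elem h2 (ι := K) (n := n)
    (by simp [K]; omega) (diagonal_transpose dv) (hD₀d ▸ hr0) hm hd (by
      rw [hD₀d]
      by_cases hs : s = 0
      · refine Or.inl ((mul_eq_zero.1 (show (-1 : F) ^ n * (h.eval 2 * h.eval (-2)) = 0 by
          rw [← mul_assoc]; exact hs)).resolve_left (pow_ne_zero _ (neg_ne_zero.2 one_ne_zero)))
      · exact Or.inr ⟨s, by simp only [r, if_neg hs, s]; ring⟩)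
  obtain ⟨τ, hτ⟩ : ∃ τ : Bool, A₀.det = if τ then -1 else 1 := by
    rcases det_sq_of_congr (hD₀d ▸ hr0) hA₀Q with e | e
    · exact ⟨false, e⟩
    · exact ⟨true, e⟩
  let ε : F := if τ then -1 else 1
  have hεε : ε * ε = 1 := by simp only [ε]; split_ifs <;> ring
  let Q₁ : Matrix (K ⊕ Fin 1) (K ⊕ Fin 1) F := fromBlocks D₀ 0 0 (diagonal fun _ => D.det * r)
  let A₁ : Matrix (K ⊕ Fin 1) (K ⊕ Fin 1) F := fromBlocks A₀ 0 0 (diagonal fun _ => ε)
  let A₁' : Matrix (K ⊕ Fin 1) (K ⊕ Fin 1) F := fromBlocks A₀' 0 0 (diagonal fun _ => ε)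
  have h1 : A₁ * A₁' = 1 := by
    rw [fromBlocks_multiply, ← fromBlocks_one]
    simp [hA₀, diagonal_mul_diagonal, hεε]
  have h1Q : A₁ᵀ * Q₁ * A₁ = Q₁ := by
    simp only [A₁, Q₁, fromBlocks_transpose, fromBlocks_multiply, transpose_zero, diagonal_transpose,
      Matrix.zero_mul, Matrix.mul_zero, add_zero, zero_add, diagonal_mul_diagonal]
    congr 1
    congr 1
    funext i
    linear_combination (D.det * r) * hεε
  have h1c : (A₁ + A₁').charpoly = (X - C (if τ then -2 else 2)) * h ^ 2 := by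
    have : fromBlocks A₀ 0 0 (diagonal fun _ : Fin 1 => ε) + fromBlocks A₀' 0 0 (diagonal fun _ => ε) =
        fromBlocks (A₀ + A₀') 0 0 (diagonal fun _ => ε + ε) := by
      rw [fromBlocks_add, diagonal_add]; simp
    rw [show A₁ + A₁' = _ from this, charpoly_fromBlocks_zero₁₂, hc₀, charpoly_diagonal,
      Fin.prod_univ_one, mul_comm, show ε + ε = if τ then -2 else 2 by simp only [ε]; split_ifs <;> ring]
  have h1d : A₁.det = 1 := by
    rw [det_fromBlocks_zero₁₂, det_diagonal, Fin.prod_univ_one, hτ]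
    exact hεε
  obtain ⟨e⟩ : Nonempty ((K ⊕ Fin 1) ≃ ι) :=
    ⟨Fintype.equivOfCardEq (by simp [K, hι]; omega)⟩
  let R := Matrix.reindexAlgEquiv F F e
  have hQ₁d : Q₁.det = r * (D.det * r) := by simp [Q₁, det_fromBlocks_zero₁₂, hD₀d]
  have hQ₂d : (R Q₁).det = Q₁.det := Matrix.det_reindexAlgEquiv F F e Q₁
  have hQ₂u : IsUnit (R Q₁) := by
    rw [Matrix.isUnit_iff_isUnit_det, isUnit_iff_ne_zero, hQ₂d, hQ₁d]
    exact mul_ne_zero hr0 (mul_ne_zero hDu hr0)
  have hQ₂ : (R Q₁)ᵀ = R Q₁ := by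
    show (Q₁.submatrix e.symm e.symm)ᵀ = Q₁.submatrix e.symm e.symm
    rw [transpose_submatrix]
    congr 1
    simp [Q₁, D₀, fromBlocks_transpose]
  have hT : ∀ M, (R M)ᵀ = R Mᵀ := fun M => rfl
  obtain ⟨T, hTu, hTD⟩ := CfsgLib.SpUnip.exists_congr_symm h2 hD
    ((Matrix.isUnit_iff_isUnit_det _).2 (isUnit_iff_ne_zero.2 hDu)) hQ₂ hQ₂u
    ⟨D.det * r, by rw [hQ₂d, hQ₁d]; ring⟩
  obtain ⟨u, rfl⟩ := hTu
  set U : Matrix ι ι F := (u : Matrix ι ι F) with hU
  set U' : Matrix ι ι F := (↑u⁻¹ : Matrix ι ι F) with hU'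
  have hUU' : U * U' = 1 := u.mul_inv
  have hU'U : U' * U = 1 := u.inv_mul
  refine ⟨U * R A₁ * U', U * R A₁' * U', τ, ?_, ?_, ?_, ?_⟩
  · calc U * R A₁ * U' * (U * R A₁' * U') = U * (R A₁ * (U' * U) * R A₁') * U' := by
          simp only [Matrix.mul_assoc]
      _ = 1 := by rw [hU'U, Matrix.mul_one, ← map_mul, h1, map_one, Matrix.mul_one, hUU']
  · have hA : (R A₁)ᵀ * (Uᵀ * D * U) * R A₁ = R Q₁ := by rw [hTD, hT, ← map_mul, ← map_mul, h1Q]
    have hUt : U'ᵀ * Uᵀ = 1 := by rw [← transpose_mul, hUU', transpose_one]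
    calc (U * R A₁ * U')ᵀ * D * (U * R A₁ * U')
        = U'ᵀ * ((R A₁)ᵀ * (Uᵀ * D * U) * R A₁) * U' := by
          simp only [transpose_mul, Matrix.mul_assoc]
      _ = U'ᵀ * (Uᵀ * D * U) * U' := by rw [hA, hTD]
      _ = (U'ᵀ * Uᵀ) * D * (U * U') := by simp only [Matrix.mul_assoc]
      _ = D := by rw [hUt, hUU', Matrix.one_mul, Matrix.mul_one]
  · rw [det_mul, det_mul, mul_right_comm, ← det_mul, hUU', det_one, one_mul]
    exact (Matrix.det_reindexAlgEquiv F F e A₁).trans h1d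
  · rw [← Matrix.add_mul, ← Matrix.mul_add, ← map_add, hU, hU', Matrix.coe_units_inv, charpoly_units_conj]
    show (Matrix.reindex e e (A₁ + A₁')).charpoly = _
    rw [charpoly_reindex, h1c]

open _root_.Classical in
theorem eq_of_charpoly_eq (h2 : (2 : F) ≠ 0) {h g : F[X]} (hh : h.Monic) (hg : g.Monic) {τ σ : Bool}
    (e : (X - C (if τ then -2 else 2 : F)) * h ^ 2 = (X - C (if σ then -2 else 2 : F)) * g ^ 2) : h = g := by
  have h4 : (2 : F) ≠ -2 := fun e => h2 (mul_left_cancel₀ h2 (by linear_combination e))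
  have hmul : ∀ (c : F) (p : F[X]), p.Monic → rootMultiplicity (2 : F) ((X - C c) * p ^ 2) =
      (if c = 2 then 1 else 0) + 2 * rootMultiplicity (2 : F) p := by
    intro c p hp
    have hne : (X - C c) * p ^ 2 ≠ 0 := mul_ne_zero (X_sub_C_ne_zero c) (pow_ne_zero _ hp.ne_zero)
    rw [rootMultiplicity_mul hne, sq, rootMultiplicity_mul (mul_ne_zero hp.ne_zero hp.ne_zero), two_mul]
    congr 1
    classical
    rw [rootMultiplicity_X_sub_C]
    exact if_congr eq_comm rfl rfl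
  have hτσ : τ = σ := by
    have h1 := congrArg (rootMultiplicity (2 : F)) e
    rw [hmul _ _ hh, hmul _ _ hg] at h1
    cases τ <;> cases σ
    · rfl
    · simp only [Bool.false_eq_true, ↓reduceIte, if_neg h4.symm] at h1; omega
    · simp only [Bool.false_eq_true, ↓reduceIte, if_neg h4.symm] at h1; omega
    · rfl
  subst hτσ
  have hsq := mul_left_cancel₀ (X_sub_C_ne_zero _) e
  rcases sq_eq_sq_iff_eq_or_eq_neg.1 hsq with h' | h'
  · exact h'
  · exfalso
    have := congrArg leadingCoeff h'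
    rw [leadingCoeff_neg, hh.leadingCoeff, hg.leadingCoeff] at this
    exact h2 (by linear_combination this)

variable {ι : Type} [Fintype ι] [DecidableEq ι] {Q : QuadraticForm F (ι → F)}

open QuadraticMap in
/-- There are at least `q^n` classes of isometries of determinant one. -/
theorem card_so_ge (hnd : NDPolar Q) (h2 : (2 : F) ≠ 0) {n : ℕ} (hn : 1 ≤ n)
    (hι : Fintype.card ι = 2 * n + 1) :
    Fintype.card F ^ n ≤ Nat.card (ConjClasses ↥(SO Q)) := by
  classical
  let D : Matrix ι ι F := LinearMap.toMatrix₂' F (polarBilin Q)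
  have hD : Dᵀ = D := by
    ext i j
    simp [D, LinearMap.toMatrix₂'_apply, polar_comm]
  have hform : ∀ x y, polar (⇑Q) x y = dotProduct x (D.mulVec y) := fun x y => by
    rw [← Matrix.toLinearMap₂'_apply', Matrix.toLinearMap₂'_toMatrix']
    rfl
  have hDu : D.det ≠ 0 := fun h0 => by
    obtain ⟨v, hv0, hv⟩ := Matrix.exists_mulVec_eq_zero_iff.2 h0
    refine hv0 (hnd v fun y => ?_)
    rw [polar_comm, hform, hv, dotProduct_zero]
  let h : (Fin n → F) → F[X] := fun a => X ^ n + ((degreeLTEquiv F n).symm a : F[X])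
  have hdeg : ∀ a : Fin n → F, ((degreeLTEquiv F n).symm a : F[X]).degree < n := fun a =>
    mem_degreeLT.1 ((degreeLTEquiv F n).symm a).2
  have hm : ∀ a, (h a).Monic := fun a => monic_X_pow_add (hdeg a)
  have hd : ∀ a, (h a).natDegree = n := fun a => natDegree_eq_of_degree_eq_some (by
    rw [degree_add_eq_left_of_degree_lt (by rw [degree_X_pow]; exact hdeg a), degree_X_pow])
  have hel : ∀ a, ∃ (g : ↥(SO Q)) (τ : Bool),
      (((g.1 : GL ι F) : Matrix ι ι F) + (((g.1⁻¹ : ↥(isometryGroup F ⇑Q)) : GL ι F) : Matrix ι ι F)).charpoly =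
        (X - C (if τ then -2 else 2)) * h a ^ 2 := by
    intro a
    obtain ⟨A, A', τ, hA, hAQ, hdet, hc⟩ := exists_odd_elem h2 hn hι hD hDu (hm a) (hd a)
    have hA' : A' * A = 1 := mul_eq_one_comm.1 hA
    have hQA : ∀ v, Q (A *ᵥ v) = Q v := fun v => mul_left_cancel₀ h2 (by
      have e : ∀ w, dotProduct (A *ᵥ v) w = dotProduct v (Aᵀ *ᵥ w) := fun w => by
        rw [dotProduct_mulVec v Aᵀ, vecMul_transpose]
      rw [← OrthSpinor.polar_self', ← OrthSpinor.polar_self', hform, hform, e, mulVec_mulVec,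
        mulVec_mulVec, hAQ])
    let g := OrthSpinor.mkIsometry Q A A' hA hA' hQA
    have hgA : ((g : GL ι F) : Matrix ι ι F) = A := rfl
    have hgA' : (((g⁻¹ : ↥(isometryGroup F ⇑Q)) : GL ι F) : Matrix ι ι F) = A' := rfl
    have hker : g ∈ SO Q := MonoidHom.mem_ker.2 (Units.ext
      ((OrthSpinor.detHom_coe g).trans ((congrArg Matrix.det hgA).trans (hdet.trans Units.val_one.symm))))
    exact ⟨⟨g, hker⟩, τ, hc⟩
  choose g τ hg using hel
  have hcard : Nat.card (Fin n → F) = Fintype.card F ^ n := by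
    rw [Nat.card_fun, Nat.card_fin, Nat.card_eq_fintype_card]
  rw [← hcard]
  refine Nat.card_le_card_of_injective (fun a => ConjClasses.mk (g a)) fun a b hab => ?_
  obtain ⟨c, hc⟩ := isConj_iff.1 (ConjClasses.mk_eq_mk_iff_isConj.1 hab)
  have key : (((g b).1 : GL ι F) : Matrix ι ι F) + ((((g b).1⁻¹ : ↥(isometryGroup F ⇑Q))) : GL ι F) =
      ((c.1 : GL ι F) : Matrix ι ι F) * ((((g a).1 : GL ι F) : Matrix ι ι F) +
        ((((g a).1⁻¹ : ↥(isometryGroup F ⇑Q))) : GL ι F)) * (((c.1 : GL ι F)⁻¹ : GL ι F) : Matrix ι ι F) := by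
    rw [← hc]
    simp only [Subgroup.coe_mul, Subgroup.coe_inv, _root_.mul_inv_rev, inv_inv, Units.val_mul]
    rw [Matrix.mul_add, Matrix.add_mul]
    simp only [Matrix.mul_assoc]
  have hch := congrArg Matrix.charpoly key
  rw [hg b, Matrix.coe_units_inv, Matrix.charpoly_units_conj, hg a] at hch
  exact (degreeLTEquiv F n).symm.injective (Subtype.ext (add_left_cancel
    (eq_of_charpoly_eq h2 (hm a) (hm b) hch.symm)))

end CfsgLib.OrthClassNum
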