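import Cfsg.Agent.Lib.OrthClassNum.Count
import Cfsg.Agent.Lib.OrthClassNum.IndexTwo
import Cfsg.Agent.Lib.OrthCrit.Basic
import Cfsg.Agent.Lib.Classical.Quad.Index

/-!
The classes of `Ω` of an orthogonal space of odd dimension in terms of the data of isometries.
-/

set_option autoImplicit false

namespace CfsgLib.OrthClassNum

open QuadraticMap Module Cfsg
open CfsgLib.Classical.Quad (NDPolar Orth orth_ext negOne negOne_apply)
open CfsgLib.OrthCrit (toOrth toOrth_apply toOrth_symm_act)
open CfsgLib.UnipotentGL CfsgLib.UnipotentClassical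
open CfsgLib.SpClassNum (mdims count_mdims fmat ClassData bres res coe_res)

variable {F : Type*} [Field F] [Fintype F]

/-- An invertible symmetric matrix of size at least two represents every nonzero element. -/
theorem exists_represent (h2 : (2 : F) ≠ 0) {ι : Type*} [Fintype ι] [DecidableEq ι]
    {G : Matrix ι ι F} (hG : G.transpose = G) (hu : IsUnit G) (hι : 2 ≤ Fintype.card ι) {c : F} (hc : c ≠ 0) :
    ∃ a : ι → F, dotProduct a (G.mulVec a) = c := by
  obtain ⟨i, j, hij⟩ := Fintype.exists_pair_of_one_lt_card (α := ι) hι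
  let v : ι → F := fun k => if k = i then c else if k = j then c * G.det else 1
  have hdet : (Matrix.diagonal v).det = c * (c * G.det) := by
    rw [Matrix.det_diagonal, Fintype.prod_eq_mul i j hij (fun k hk => by simp [v, hk.1, hk.2])]
    simp [v, hij.symm]
  have hGd : G.det ≠ 0 := ((Matrix.isUnit_iff_isUnit_det _).1 hu).ne_zero
  obtain ⟨S, -, hS⟩ := CfsgLib.SpUnip.exists_congr_symm h2 hG hu (Matrix.diagonal_transpose v)
    ((Matrix.isUnit_iff_isUnit_det _).2 (isUnit_iff_ne_zero.2 (by
      rw [hdet]; exact mul_ne_zero hc (mul_ne_zero hc hGd))))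
    ⟨c * G.det, by rw [hdet]; ring⟩
  refine ⟨fun k => S k i, ?_⟩
  have h := congrFun (congrFun hS i) i
  rw [Matrix.diagonal_apply_eq, Matrix.mul_assoc, Matrix.mul_apply] at h
  simp only [v, if_true] at h
  exact h

variable {V : Type*} [AddCommGroup V] [Module F V]

/-- The vectors of the blocks of size one of a unipotent isometry. -/
theorem udata_one {B : V →ₗ[F] V →ₗ[F] F} {G : V ≃ₗ[F] V} (h : IsIsom B G) {μ : Multiset ℕ}
    {s : ℕ → Bool} (hut : IsUType μ s) (hd : IsUData B G μ s) (h2 : (2 : F) ≠ 0) :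
    (2 ≤ μ.count 1 → ∀ c : F, c ≠ 0 → ∃ v, G v = v ∧ B v v = c) ∧
    (μ.count 1 = 1 → ∃ v, G v = v ∧ B v v ≠ 0 ∧ (IsSquare (B v v) ↔ s 1 = true)) := by
  classical
  obtain ⟨hpos, e, he, hs⟩ := hd
  have hI := fmat_isInv h he
  have hU := fmat_isUnit h e
  let J := {k // mdims μ k = 1}
  let b : J → (Idx (mdims μ) → F) := fun k => Pi.single (CfsgLib.SpUnip.fst hpos k.1) 1
  have hfix : ∀ k : J, G (e (b k)) = e (b k) := by
    intro k
    rw [← he]
    congr 1
    funext ⟨l, a⟩
    rw [jt_apply, jb_apply, add_eq_left]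
    split_ifs with ha
    · refine Pi.single_eq_of_ne (fun heq => ?_) _
      have hl : l = k.1 := congrArg Sigma.fst heq
      subst hl
      have := a.2
      have := k.2
      omega
    · rfl
  have hgram : ∀ k l : J, B (e (b k)) (e (b l)) = gram hpos (fmat B e) 1 k l := by
    intro k l
    rw [gram_apply, pair, Matrix.of_apply, fmat, LinearMap.toMatrix₂'_apply]
    have hlst : CfsgLib.SpUnip.lst hpos k.1 = CfsgLib.SpUnip.fst hpos k.1 := by
      unfold CfsgLib.SpUnip.lst CfsgLib.SpUnip.fst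
      congr 1
      exact Fin.ext (by have := k.2; simp only; omega)
    rw [hlst]
    rfl
  have hcard : Fintype.card J = μ.count 1 := by rw [Fintype.card_subtype, count_mdims]
  have hvec : ∀ a : J → F, G (∑ k, a k • e (b k)) = ∑ k, a k • e (b k) ∧
      B (∑ k, a k • e (b k)) (∑ k, a k • e (b k)) =
        dotProduct a ((gram hpos (fmat B e) 1).mulVec a) := by
    intro a
    refine ⟨by simp only [map_sum, map_smul, hfix], ?_⟩
    simp only [map_sum, map_smul, LinearMap.sum_apply, LinearMap.smul_apply, smul_eq_mul, hgram,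
      dotProduct, Matrix.mulVec, Finset.mul_sum]
    exact Finset.sum_congr rfl fun k _ => Finset.sum_congr rfl fun l _ => by
      rw [show gram hpos (fmat B e) 1 l k = (gram hpos (fmat B e) 1).transpose k l from rfl,
        gram_symm hpos hI odd_one]
      ring
  have hgu : IsUnit (gram hpos (fmat B e) 1) :=
    (Matrix.isUnit_iff_isUnit_det _).2 (isUnit_iff_ne_zero.2 (gram_det_ne_zero hpos hI hU 1))
  refine ⟨fun hc c hc0 => ?_, fun hc => ?_⟩
  · obtain ⟨a, ha⟩ := exists_represent h2 (gram_symm hpos hI odd_one) hgu (hcard ▸ hc) hc0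
    exact ⟨_, (hvec a).1, (hvec a).2.trans ha⟩
  · obtain ⟨k, hk⟩ := Fintype.card_eq_one_iff.1 (hcard.trans hc)
    haveI : Subsingleton J := ⟨fun x y => (hk x).trans (hk y).symm⟩
    have hd : (gram hpos (fmat B e) 1).det = B (e (b k)) (e (b k)) := by
      rw [Matrix.det_eq_elem_of_subsingleton _ k, hgram]
    refine ⟨_, hfix k, hd ▸ gram_det_ne_zero hpos hI hU 1, ?_⟩
    rw [← hd]
    exact ⟨fun h' => (hs 1).2 ⟨odd_one, Multiset.count_pos.1 (by omega), h'⟩, fun h' => ((hs 1).1 h').2.2⟩

variable [FiniteDimensional F V]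

/-- Data violating the restriction give two eigenvectors with product of norms a non-square. -/
theorem exists_pair_of_not_restr (h2 : (2 : F) ≠ 0) {B : V →ₗ[F] V →ₗ[F] F} {G : V ≃ₗ[F] V}
    (h : IsIsom B G) {N : ℕ} {x : ClassData F} (hv : Valid N x) (hx : HasData B G x)
    (hr : ¬Restr (x.mu.count 1) (x.mu'.count 1) (x.sg 1) (x.sg' 1)) :
    ∃ u v, (G u = u ∨ G u = -u) ∧ (G v = v ∨ G v = -v) ∧ ¬IsSquare (B u u * B v v) := by
  obtain ⟨ν, hν0, hν⟩ := OrthSpinor.exists_nonsquare' h2
  obtain ⟨P, M, Z, hP, hM, hZ, top, oPM, oPZ, oMZ, -, -, dP, dM, -, -⟩ := hx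
  have oMP : ∀ a ∈ M, ∀ b ∈ P, B a b = 0 := fun a ha b hb => by rw [h.symm, oPM b hb a ha]
  obtain ⟨p1, p2⟩ := udata_one (h.isIsom_res hP top oPM oPZ) hv.ut dP h2
  obtain ⟨m1, m2⟩ := udata_one
    (h.isIsom_res (Q := P) (R := Z) hM (by rwa [sup_comm M P]) oMP oMZ).neg hv.ut' dM h2
  have negfix : ∀ w : M, (res G M hM).trans (LinearEquiv.neg F) w = w → G (w : V) = -(w : V) := fun w hw => by
    have := congrArg Subtype.val hw
    simp only [LinearEquiv.trans_apply, LinearEquiv.neg_apply, Submodule.coe_neg, coe_res] at this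
    rw [← this, neg_neg]
    exact congrArg G (congrArg Subtype.val hw).symm ▸ rfl
  by_cases ha : 2 ≤ x.mu.count 1
  · obtain ⟨u, hu, hBu⟩ := p1 ha 1 one_ne_zero
    obtain ⟨v, hv', hBv⟩ := p1 ha ν hν0
    refine ⟨u, v, Or.inl (congrArg Subtype.val hu), Or.inl (congrArg Subtype.val hv'), ?_⟩
    rw [show B (u : V) u = 1 from hBu, show B (v : V) v = ν from hBv, one_mul]
    exact hν
  by_cases hb : 2 ≤ x.mu'.count 1
  · obtain ⟨u, hu, hBu⟩ := m1 hb 1 one_ne_zero
    obtain ⟨v, hv', hBv⟩ := m1 hb ν hν0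
    refine ⟨u, v, Or.inr (negfix u hu), Or.inr (negfix v hv'), ?_⟩
    rw [show B (u : V) u = 1 from hBu, show B (v : V) v = ν from hBv, one_mul]
    exact hν
  have hab : x.mu.count 1 = 1 ∧ x.mu'.count 1 = 1 ∧ x.sg 1 ≠ x.sg' 1 := by
    by_contra hn
    exact hr ⟨by omega, by omega, fun e1 e2 => not_not.1 fun e3 => hn ⟨e1, e2, e3⟩,
      hv.ut.sg_pos, hv.ut'.sg_pos⟩
  obtain ⟨u, hu, hu0, hus⟩ := p2 hab.1
  obtain ⟨v, hv', hv0, hvs⟩ := m2 hab.2.1
  refine ⟨u, v, Or.inl (congrArg Subtype.val hu), Or.inr (negfix v hv'), fun hsq => hab.2.2 ?_⟩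
  change IsSquare (bres B P u u * bres B M v v) at hsq
  rw [Bool.eq_iff_iff, ← hus, ← hvs]
  obtain ⟨r, hr⟩ := hsq
  have hr0 : r ≠ 0 := fun e => mul_ne_zero hu0 hv0 (by rw [hr, e, mul_zero])
  constructor
  · rintro ⟨a, ha⟩
    exact ⟨r / a, by
      rw [div_mul_div_comm, ← hr, ← ha, mul_comm, mul_div_assoc, div_self hu0, mul_one]⟩
  · rintro ⟨a, ha⟩
    exact ⟨r / a, by rw [div_mul_div_comm, ← hr, ← ha, mul_div_assoc, div_self hv0, mul_one]⟩

section Group

variable {ι : Type} [Fintype ι] [DecidableEq ι] (Q : QuadraticForm F (ι → F))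

/-- A sign and a scalar applied to an automorphism and to the polar form. -/
def tw (e : (ι → F) ≃ₗ[F] (ι → F)) : Bool → ((ι → F) ≃ₗ[F] (ι → F))
  | false => e
  | true => e.trans (LinearEquiv.neg F)

/-- The isometries of determinant one. -/
noncomputable abbrev SO : Subgroup ↥(isometryGroup F ⇑Q) := (OrthSpinor.detHom (Q := Q)).ker

/-- The spinor norm on the isometries of determinant one. -/
noncomputable abbrev thetaSO : ↥(SO Q) →* ℤˣ := (OrthSpinor.theta (Q := Q) 1).comp (SO Q).subtype

variable {Q}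

theorem classes_omega (hnd : NDPolar Q) (h2 : (2 : F) ≠ 0) (hn : 2 ≤ Fintype.card ι) :
    Nat.card (ConjClasses ↥(Omega F ⇑Q)) = Nat.card (ConjClasses ↥(thetaSO Q).ker) := by
  have hmem := fun g => OrthSpinor.mem_Omega_iff h2 (CfsgLib.Orth.ndPolar_iff.mp hnd) hn one_ne_zero
    (Q := Q) g
  let e : ↥(Omega F ⇑Q) ≃* ↥(thetaSO Q).ker :=
    { toFun := fun g => ⟨⟨g.1, ((hmem g.1).1 g.2).1⟩, ((hmem g.1).1 g.2).2⟩
      invFun := fun g => ⟨g.1.1, (hmem g.1.1).2 ⟨g.1.2, g.2⟩⟩
      left_inv := fun _ => rfl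
      right_inv := fun _ => rfl
      map_mul' := fun _ _ => rfl }
  have h1 := card_comm_eq_card_conjClasses_mul_card ↥(Omega F ⇑Q)
  rw [Nat.card_congr e.toEquiv, Nat.card_congr ((e.toEquiv.prodCongr e.toEquiv).subtypeEquiv
    (q := fun p : ↥(thetaSO Q).ker × ↥(thetaSO Q).ker => Commute p.1 p.2) fun p =>
      ⟨fun h => h.map e, fun h => by simpa using h.map e.symm⟩),
    card_comm_eq_card_conjClasses_mul_card] at h1
  exact (Nat.eq_of_mul_eq_mul_right Nat.card_pos h1).symm

theorem reflection_mem_pair (hnd : NDPolar Q) (h2 : (2 : F) ≠ 0) {u v : ι → F} (hu : Q u ≠ 0)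
    (hv : Q v ≠ 0) : OrthSpinor.reflection hu * OrthSpinor.reflection hv ∈ SO Q := by
  rw [MonoidHom.mem_ker, map_mul, OrthSpinor.detHom_reflection, OrthSpinor.detHom_reflection]
  simp

theorem thetaSO_surjective (hnd : NDPolar Q) (h2 : (2 : F) ≠ 0) (hn : 2 ≤ Fintype.card ι) :
    Function.Surjective (thetaSO Q) := by
  obtain ⟨ν, hν0, hν⟩ := OrthSpinor.exists_nonsquare' h2
  obtain ⟨a, ha⟩ := OrthSpinor.exists_norm h2 (CfsgLib.Orth.ndPolar_iff.mp hnd) hn (1 : F)
  obtain ⟨b, hb⟩ := OrthSpinor.exists_norm h2 (CfsgLib.Orth.ndPolar_iff.mp hnd) hn ν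
  have ha0 : Q a ≠ 0 := ha ▸ one_ne_zero
  have hb0 : Q b ≠ 0 := hb ▸ hν0
  intro z
  rcases Int.units_eq_one_or z with rfl | rfl
  · exact ⟨1, map_one _⟩
  · exact ⟨⟨_, reflection_mem_pair hnd h2 ha0 hb0⟩,
      CfsgLib.OrthCrit.theta_pair h2 ha0 hb0 (by rwa [ha, hb, one_mul])⟩

theorem isIsom_tw (hnd : NDPolar Q) {c : F} (hc : c ≠ 0) (g : ↥(isometryGroup F ⇑Q)) (ε : Bool) :
    IsIsom (c • polarBilin Q) (tw (toOrth Q g).1 ε) := by
  have h : IsIsom (c • polarBilin Q) (toOrth Q g).1 := by
    refine ⟨fun x y => ?_, fun v hv => hnd v fun y => ?_, fun x y => ?_⟩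
    · simp only [LinearMap.smul_apply, polarBilin_apply_apply, smul_eq_mul, polar_comm (⇑Q) x y]
    · simpa [hc] using hv y
    · simp only [LinearMap.smul_apply, polarBilin_apply_apply, toOrth_apply, OrthSpinor.polar_act]
  cases ε
  · exact h
  · exact h.neg

variable (Q) in
/-- The bilinear form of a sign. -/
noncomputable def scal (ν : F) : Bool → ((ι → F) →ₗ[F] (ι → F) →ₗ[F] F)
  | false => (1 : F) • polarBilin Q
  | true => ν • polarBilin Q

open _root_.Classical in
/-- The classes of `Ω` are bounded by the data. -/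
theorem omega_classes_le (hnd : NDPolar Q) (h2 : (2 : F) ≠ 0) (hq : 3 ≤ Fintype.card F) {n : ℕ}
    (hn : 1 ≤ n) (hι : Fintype.card ι = 2 * n + 1) :
    10 * Nat.card (ConjClasses ↥(Omega F ⇑Q)) ≤ 73 * Fintype.card F ^ n ∧
      Nat.card (ConjClasses ↥(SO Q)) ≤ 2 * Nat.card (ConjClasses ↥(Omega F ⇑Q)) := by
  have hid := two_mul_classes_ker (thetaSO Q) (thetaSO_surjective hnd h2 (by omega))
  rw [← classes_omega hnd h2 (by omega)] at hid
  refine ⟨?_, by omega⟩
  obtain ⟨p, _⟩ := CharP.exists F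
  haveI : Fact p.Prime := ⟨CharP.char_is_prime F p⟩
  have hp : p ≠ 2 := fun h => h2 (by subst h; exact_mod_cast CharP.cast_eq_zero F 2)
  obtain ⟨ν, hν0, hν⟩ := OrthSpinor.exists_nonsquare' h2
  have hdim : finrank F (ι → F) = 2 * n + 1 := by rw [Module.finrank_fintype_fun_eq_card, hι]
  let cc : Bool → F := fun c => if c then ν else 1
  have hcc0 : ∀ c, cc c ≠ 0 := fun c => by cases c <;> simp [cc, hν0]
  have hscal : ∀ c, scal Q ν c = cc c • polarBilin Q := fun c => by cases c <;> rfl
  let X := ConjClasses ↥(SO Q) × Bool × Bool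
  let rep : ConjClasses ↥(SO Q) → ↥(SO Q) := fun k => k.exists_rep.choose
  have hrep : ∀ k, ConjClasses.mk (rep k) = k := fun k => k.exists_rep.choose_spec
  let G : X → ((ι → F) ≃ₗ[F] (ι → F)) := fun x => tw (toOrth Q (rep x.1).1).1 x.2.1
  have hiso : ∀ x : X, IsIsom (scal Q ν x.2.2) (G x) := fun x => by
    rw [hscal]; exact isIsom_tw hnd (hcc0 _) _ _
  have hex : ∀ x : X, ∃ d, Valid (2 * n + 1) d ∧ HasData (scal Q ν x.2.2) (G x) d :=
    fun x => exists_data h2 (hiso x) hdim
  choose D hDv hDd using hex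
  have hinj : Function.Injective D := by
    rintro ⟨k, ε, c⟩ ⟨k', ε', c'⟩ hDD
    obtain ⟨T, hT, hTB⟩ := data_intertwine p hp (hiso (k, ε, c)) (hiso (k', ε', c')) (hDd _) (hDD ▸ hDd _)
    simp only [G] at hT
    simp only [hscal, LinearMap.smul_apply, polarBilin_apply_apply, smul_eq_mul] at hTB
    set g := (toOrth Q (rep k).1).1 with hgdef
    set g' := (toOrth Q (rep k').1).1 with hg'def
    have hdet : ∀ k : ConjClasses ↥(SO Q),
        LinearMap.det ((toOrth Q (rep k).1).1 : (ι → F) →ₗ[F] (ι → F)) = 1 := fun k => by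
      have e : ((toOrth Q (rep k).1).1 : (ι → F) →ₗ[F] (ι → F)) =
          Matrix.toLin' (((rep k).1 : GL ι F) : Matrix ι ι F) := LinearMap.ext fun v => toOrth_apply _ _
      have h1 : OrthSpinor.detHom (rep k).1 = 1 := (rep k).2
      rw [e, LinearMap.det_toLin', ← OrthSpinor.detHom_coe, h1, Units.val_one]
    -- the signs agree
    have hεε : ε = ε' := by
      have hdtw : ∀ (b : Bool) (k : ConjClasses ↥(SO Q)),
          LinearMap.det (tw (toOrth Q (rep k).1).1 b : (ι → F) →ₗ[F] (ι → F)) = if b then -1 else 1 := by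
        intro b k
        cases b
        · exact hdet k
        · have : (tw (toOrth Q (rep k).1).1 true : (ι → F) →ₗ[F] (ι → F)) =
              (-1 : F) • ((toOrth Q (rep k).1).1 : (ι → F) →ₗ[F] (ι → F)) :=
            LinearMap.ext fun v => by simp [tw]
          rw [this, LinearMap.det_smul, hdim, hdet, mul_one, Odd.neg_one_pow ⟨n, rfl⟩, if_pos rfl]
      have hc := LinearMap.det_conj (tw g ε : (ι → F) →ₗ[F] (ι → F)) T
      rw [show (T : (ι → F) →ₗ[F] (ι → F)) ∘ₗ (tw g ε : (ι → F) →ₗ[F] (ι → F)) ∘ₗ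
          (T.symm : (ι → F) →ₗ[F] (ι → F)) = (tw g' ε' : (ι → F) →ₗ[F] (ι → F)) from
        LinearMap.ext fun v => by simp [hT], hdtw, hdtw] at hc
      have h11 : (1 : F) ≠ -1 := fun e => h2 (by linear_combination e)
      cases ε <;> cases ε' <;> simp only [Bool.false_eq_true, if_false, if_true] at hc <;>
        first
          | rfl
          | exact absurd hc h11
          | exact absurd hc.symm h11
    subst hεε
    have hT' : ∀ v, T (g v) = g' (T v) := fun v => by
      have := hT v
      cases ε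
      · exact this
      · simpa [tw] using this
    -- the scalars agree
    have hcc : c = c' := by
      let P : Matrix ι ι F := LinearMap.toMatrix₂' F (polarBilin Q)
      have hP : P.det ≠ 0 := fun h0 => by
        obtain ⟨v, hv0, hv⟩ := Matrix.exists_mulVec_eq_zero_iff.2 h0
        refine hv0 (hnd v fun y => ?_)
        rw [polar_comm, ← polarBilin_apply_apply, ← Matrix.toLinearMap₂'_toMatrix' (R := F) (polarBilin Q),
          Matrix.toLinearMap₂'_apply']
        show dotProduct y (P.mulVec v) = 0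
        rw [hv, dotProduct_zero]
      have hP' : cc c' • ((LinearMap.toMatrix' (T : (ι → F) →ₗ[F] (ι → F))).transpose * P *
          LinearMap.toMatrix' (T : (ι → F) →ₗ[F] (ι → F))) = cc c • P := by
        rw [← LinearMap.toMatrix₂'_compl₁₂, ← map_smul, ← map_smul]
        congr 1
        exact LinearMap.ext₂ fun x y => by simpa using hTB x y
      have hd := congrArg Matrix.det hP'
      rw [Matrix.det_smul, Matrix.det_smul, Matrix.det_mul, Matrix.det_mul, Matrix.det_transpose, hι] at hd
      set t := (LinearMap.toMatrix' (T : (ι → F) →ₗ[F] (ι → F))).det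
      have hd' : cc c' ^ (2 * n + 1) * t ^ 2 = cc c ^ (2 * n + 1) :=
        mul_right_cancel₀ hP (by linear_combination hd)
      have ht0 : t ≠ 0 := fun e => pow_ne_zero _ (hcc0 c) (by rw [← hd', e]; simp)
      by_contra hne
      apply hν
      cases c <;> cases c' <;> simp only [cc, if_true, Bool.false_eq_true, if_false, one_pow, one_mul] at hd' <;>
        first
          | exact absurd rfl hne
          | exact ⟨1 / (ν ^ n * t), by field_simp; linear_combination hd'⟩
          | exact ⟨t / ν ^ n, by field_simp; linear_combination -hd'⟩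
    subst hcc
    -- an isometry of determinant one
    have hQT : ∀ v, Q (T v) = Q v := fun v => mul_left_cancel₀ h2 (by
      have := mul_left_cancel₀ (hcc0 c) (hTB v v)
      rwa [OrthSpinor.polar_self', OrthSpinor.polar_self'] at this)
    obtain ⟨S, hS, hS1⟩ : ∃ S : Orth Q, (∀ v, S.1 (g v) = g' (S.1 v)) ∧
        OrthSpinor.detHom ((toOrth Q).symm S) = 1 := by
      let T0 : Orth Q := ⟨T, hQT⟩
      by_cases hd : OrthSpinor.detHom ((toOrth Q).symm T0) = 1
      · exact ⟨T0, hT', hd⟩
      refine ⟨negOne Q * T0, fun v => ?_, ?_⟩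
      · show -(T (g v)) = g' (-(T v))
        rw [hT', map_neg]
      · have e : ∀ R : Orth Q, ((OrthSpinor.detHom ((toOrth Q).symm R) : Fˣ) : F) =
            LinearMap.det (R.1 : (ι → F) →ₗ[F] (ι → F)) := fun R => by
          rw [OrthSpinor.detHom_coe, ← LinearMap.det_toLin']
          exact congrArg LinearMap.det (LinearMap.ext fun v => toOrth_symm_act R v)
        have hsq : (OrthSpinor.detHom ((toOrth Q).symm T0) : Fˣ) = -1 := by
          have hp' : ∀ R : Orth Q, ((OrthSpinor.detHom ((toOrth Q).symm R) : Fˣ) : F) ^ 2 = 1 := by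
            intro R
            let P : Matrix ι ι F := LinearMap.toMatrix₂' F (polarBilin Q)
            have hP : P.det ≠ 0 := fun h0 => by
              obtain ⟨v, hv0, hv⟩ := Matrix.exists_mulVec_eq_zero_iff.2 h0
              refine hv0 (hnd v fun y => ?_)
              rw [polar_comm, ← polarBilin_apply_apply,
                ← Matrix.toLinearMap₂'_toMatrix' (R := F) (polarBilin Q), Matrix.toLinearMap₂'_apply']
              show dotProduct y (P.mulVec v) = 0
              rw [hv, dotProduct_zero]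
            have hR : (LinearMap.toMatrix' (R.1 : (ι → F) →ₗ[F] (ι → F))).transpose * P *
                LinearMap.toMatrix' (R.1 : (ι → F) →ₗ[F] (ι → F)) = P := by
              rw [← LinearMap.toMatrix₂'_compl₁₂]
              congr 1
              exact LinearMap.ext₂ fun x y => by simp [polar, ← map_add, R.2 _]
            have hd := congrArg Matrix.det hR
            rw [Matrix.det_mul, Matrix.det_mul, Matrix.det_transpose, LinearMap.det_toMatrix'] at hd
            rw [e]
            exact mul_right_cancel₀ hP (by linear_combination hd)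
          refine Units.ext ?_
          rcases sq_eq_one_iff.1 (hp' T0) with h | h
          · exact absurd (Units.ext h) hd
          · rw [h, Units.val_neg, Units.val_one]
        refine Units.ext ?_
        rw [map_mul, map_mul, Units.val_mul, hsq, e]
        have : ((negOne Q).1 : (ι → F) →ₗ[F] (ι → F)) = (-1 : F) • LinearMap.id :=
          LinearMap.ext fun v => by simp [negOne_apply]
        rw [this, LinearMap.det_smul, hdim, LinearMap.det_id, Odd.neg_one_pow ⟨n, rfl⟩]
        simp
    have hconj : IsConj (rep k) (rep k') := by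
      refine isConj_iff.2 ⟨⟨(toOrth Q).symm S, hS1⟩, mul_inv_eq_iff_eq_mul.2 (Subtype.ext ?_)⟩
      apply (toOrth Q).injective
      simp only [Subgroup.coe_mul, map_mul, MulEquiv.apply_symm_apply]
      exact orth_ext hS
    rw [Prod.mk.injEq, Prod.mk.injEq]
    exact ⟨by rw [← hrep k, ← hrep k', ConjClasses.mk_eq_mk_iff_isConj.2 hconj], rfl, rfl⟩
  let X' := {k : ConjClasses ↥(SO Q) // IsSplitClass (thetaSO Q) k} × Bool × Bool
  have hres : ∀ x : X', Restr ((D (x.1.1, x.2)).mu.count 1) ((D (x.1.1, x.2)).mu'.count 1)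
      ((D (x.1.1, x.2)).sg 1) ((D (x.1.1, x.2)).sg' 1) := by
    rintro ⟨⟨k, a, hak, ha⟩, ε, c⟩
    by_contra hr
    obtain ⟨u, v, hu, hv, hsq⟩ := exists_pair_of_not_restr h2 (hiso (k, ε, c)) (hDv _) (hDd _) hr
    simp only [hscal, LinearMap.smul_apply, polarBilin_apply_apply, smul_eq_mul,
      OrthSpinor.polar_self'] at hsq
    have hsq' : ¬IsSquare (Q u * Q v) := fun ⟨r, hr⟩ => hsq
      ⟨2 * cc c * r, by linear_combination (4 * cc c * cc c) * hr⟩
    have hu0 : Q u ≠ 0 := fun e => hsq' (by rw [e, zero_mul]; exact IsSquare.zero)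
    have hv0 : Q v ≠ 0 := fun e => hsq' (by rw [e, mul_zero]; exact IsSquare.zero)
    have hcomm : ∀ {w : ι → F} (hw : Q w ≠ 0), (G (k, ε, c) w = w ∨ G (k, ε, c) w = -w) →
        Commute (rep k).1 (OrthSpinor.reflection hw) := by
      intro w hw hfix
      have hact : OrthSpinor.act Q (rep k).1 w = w ∨ OrthSpinor.act Q (rep k).1 w = -w := by
        rw [← toOrth_apply]
        cases ε
        · exact hfix
        · simp only [G, tw, LinearEquiv.trans_apply, LinearEquiv.neg_apply] at hfix
          rcases hfix with h | h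
          · exact Or.inr (neg_eq_iff_eq_neg.1 h)
          · exact Or.inl (neg_inj.1 h)
      refine mul_inv_eq_iff_eq_mul.1 ?_
      rw [OrthSpinor.conj_reflection _ hw]
      rcases hact with h | h
      · exact OrthSpinor.reflection_congr h _
      · exact (OrthSpinor.reflection_congr h _).trans (OrthSpinor.reflection_neg hw)
    have hspl : IsSplitElt (thetaSO Q) (rep k) :=
      ha.of_isConj (ConjClasses.mk_eq_mk_iff_isConj.1 (hak.trans (hrep k).symm))
    have := hspl ⟨_, reflection_mem_pair hnd h2 hu0 hv0⟩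
      (Subtype.ext ((hcomm hu0 hu).mul_right (hcomm hv0 hv)))
    rw [show thetaSO Q ⟨_, reflection_mem_pair hnd h2 hu0 hv0⟩ = -1 from
      CfsgLib.OrthCrit.theta_pair h2 hu0 hv0 hsq'] at this
    exact absurd this (by decide)
  haveI : Fintype X := Fintype.ofFinite X
  haveI : Fintype X' := Fintype.ofFinite X'
  have hb := card_data_add_le h2 hq hn D (fun x : X' => D (x.1.1, x.2)) hDv (fun x => hDv _) hinj
    (fun x y hxy => by
      have := hinj hxy
      rw [Prod.mk.injEq] at this
      exact Prod.ext (Subtype.ext this.1) this.2) hres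
  simp only [X, X', Nat.card_prod, Nat.card_eq_fintype_card (α := Bool), Fintype.card_bool] at hb
  omega

end Group

end CfsgLib.OrthClassNum
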