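import Cfsg.Agent.Lib.SpClassNum.Count

/-!
The numbers of local data of the classes of an orthogonal group, and their weighted sums.
-/

set_option autoImplicit false

namespace CfsgLib.OrthClassNum

open Finset
open CfsgLib.SpClassNum (cnt e2)

/-- The options of a block size: `e` counts the pairs of signed multiplicities. -/
def wod (e : ℕ → ℕ) (q t : ℕ) : ℕ := ∑ d ∈ range (t / 2 + 1), cnt q d * e (t - 2 * d)

/-- The options of an even block size. -/
def wev (q t : ℕ) : ℕ := ∑ d ∈ range (t + 1), cnt q d * (t - d + 1)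

/-- The pairs of signed multiplicities at most one with equal signs. -/
def e3 : ℕ → ℕ
  | 0 => 1
  | 1 => 4
  | 2 => 2
  | _ => 0

theorem cnt_succ_succ_succ (q d : ℕ) : cnt q (d + 3) = q * cnt q (d + 2) := by
  simp only [cnt, pow_succ]; ring

theorem wod_rec (e : ℕ → ℕ) {q : ℕ} (hq : 2 ≤ q) (t : ℕ) :
    (wod e q (t + 4) : ℤ) = q * wod e q (t + 2) + e (t + 4) - 2 * e (t + 2) + e t := by
  have h1 : wod e q (t + 2) = (∑ d ∈ range (t / 2), cnt q (d + 2) * e (t - 2 * (d + 1))) +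
      cnt q 1 * e t + cnt q 0 * e (t + 2) := by
    rw [wod, show (t + 2) / 2 = t / 2 + 1 by omega, sum_range_succ', sum_range_succ']
    refine congrArg₂ (· + ·) (congrArg₂ (· + ·) (sum_congr rfl fun d _ => ?_) ?_) rfl
    · rw [show t + 2 - 2 * (d + 1 + 1) = t - 2 * (d + 1) by omega]
    · rw [show t + 2 - 2 * (0 + 1) = t by omega]
  have h2 : wod e q (t + 4) = q * (∑ d ∈ range (t / 2), cnt q (d + 2) * e (t - 2 * (d + 1))) +
      cnt q 2 * e t + cnt q 1 * e (t + 2) + cnt q 0 * e (t + 4) := by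
    rw [wod, show (t + 4) / 2 = t / 2 + 2 by omega, sum_range_succ', sum_range_succ', sum_range_succ',
      mul_sum]
    refine congrArg₂ (· + ·) (congrArg₂ (· + ·) (congrArg₂ (· + ·) (sum_congr rfl fun d _ => ?_) ?_) ?_) rfl
    · rw [show t + 4 - 2 * (d + 1 + 1 + 1) = t - 2 * (d + 1) by omega, cnt_succ_succ_succ, mul_assoc]
    · rw [show t + 4 - 2 * (0 + 1 + 1) = t by omega]
    · rw [show t + 4 - 2 * (0 + 1) = t + 2 by omega]
  rw [h1, h2]
  simp only [cnt]
  push_cast [Nat.cast_sub (show 1 ≤ q by omega), Nat.cast_sub hq]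
  ring

theorem wev_rec {q : ℕ} (hq : 2 ≤ q) (t : ℕ) : (wev q (t + 2) : ℤ) = q * wev q (t + 1) := by
  have h1 : wev q (t + 1) = (∑ d ∈ range t, cnt q (d + 2) * (t - (d + 1) + 1)) +
      cnt q 1 * (t + 1) + cnt q 0 * (t + 2) := by
    rw [wev, sum_range_succ', sum_range_succ']
    refine congrArg₂ (· + ·) (congrArg₂ (· + ·) (sum_congr rfl fun d _ => ?_) ?_) rfl
    · rw [show t + 1 - (d + 1 + 1) = t - (d + 1) by omega]
    · rw [show t + 1 - (0 + 1) = t by omega]
  have h2 : wev q (t + 2) = q * (∑ d ∈ range t, cnt q (d + 2) * (t - (d + 1) + 1)) +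
      cnt q 2 * (t + 1) + cnt q 1 * (t + 2) + cnt q 0 * (t + 3) := by
    rw [wev, sum_range_succ', sum_range_succ', sum_range_succ', mul_sum]
    refine congrArg₂ (· + ·) (congrArg₂ (· + ·) (congrArg₂ (· + ·) (sum_congr rfl fun d _ => ?_) ?_) ?_) rfl
    · rw [show t + 2 - (d + 1 + 1 + 1) = t - (d + 1) by omega, cnt_succ_succ_succ, mul_assoc]
    · rw [show t + 2 - (0 + 1 + 1) = t by omega]
    · rw [show t + 2 - (0 + 1) = t + 1 by omega]
  rw [h1, h2]
  simp only [cnt]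
  push_cast [Nat.cast_sub (show 1 ≤ q by omega), Nat.cast_sub hq]
  ring

theorem wev_le {q : ℕ} (hq : 2 ≤ q) : ∀ t, (wev q t : ℤ) ≤ (q : ℤ) ^ t
  | 0 => by simp [wev, cnt]
  | 1 => by
    simp [wev, cnt, sum_range_succ]
    omega
  | t + 2 => by
    rw [wev_rec hq, pow_succ _ (t + 1), mul_comm]
    exact mul_le_mul_of_nonneg_right (wev_le hq (t + 1)) (Nat.cast_nonneg q)

theorem wod_e2_odd {q : ℕ} (hq : 2 ≤ q) : ∀ m : ℕ,
    (wod e2 q (2 * m + 3) : ℤ) = (q : ℤ) ^ m * (4 * q + 4)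
  | 0 => by
    simp [wod, cnt, e2, sum_range_succ]
    omega
  | m + 1 => by
    rw [show 2 * (m + 1) + 3 = 2 * m + 1 + 4 by omega, wod_rec _ hq,
      show 2 * m + 1 + 2 = 2 * m + 3 by omega, wod_e2_odd hq m, e2, e2, e2, if_neg (by omega),
      if_neg (by omega), if_neg (by omega)]
    push_cast
    ring

theorem wod_e2_even {q : ℕ} (hq : 2 ≤ q) : ∀ m : ℕ,
    (wod e2 q (2 * m + 4) : ℤ) = (q : ℤ) ^ m * ((q : ℤ) ^ 2 + 6 * q + 1)
  | 0 => by
    rw [show 2 * 0 + 4 = 0 + 4 by rfl, wod_rec _ hq]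
    simp [wod, cnt, e2, sum_range_succ, Nat.cast_sub hq]
    ring
  | m + 1 => by
    rw [show 2 * (m + 1) + 4 = 2 * m + 2 + 4 by omega, wod_rec _ hq,
      show 2 * m + 2 + 2 = 2 * m + 4 by omega, wod_e2_even hq m, e2, e2, e2, if_neg (by omega),
      if_neg (by omega), if_neg (by omega)]
    push_cast
    ring

theorem wod_e3_odd (q m : ℕ) : wod e3 q (2 * m + 1) = 4 * cnt q m := by
  rw [wod, show (2 * m + 1) / 2 = m by omega, sum_range_succ, sum_eq_zero fun d hd => ?_, zero_add,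
    show 2 * m + 1 - 2 * m = 1 by omega]
  · simp only [e3]; ring
  · have := mem_range.1 hd
    rw [show 2 * m + 1 - 2 * d = (2 * (m - d - 1)) + 3 by omega]
    rfl

theorem wod_e3_even (q m : ℕ) : wod e3 q (2 * m + 2) = cnt q (m + 1) + 2 * cnt q m := by
  rw [wod, show (2 * m + 2) / 2 = m + 1 by omega, sum_range_succ, sum_range_succ,
    sum_eq_zero fun d hd => ?_, zero_add, show 2 * m + 2 - 2 * m = 2 by omega,
    show 2 * m + 2 - 2 * (m + 1) = 0 by omega]
  · simp only [e3]; ring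
  · have := mem_range.1 hd
    rw [show 2 * m + 2 - 2 * d = (2 * (m - d - 1) + 1) + 3 by omega]
    rfl

/-- The weight of the first block size: all data plus three times the restricted ones. -/
def uw (q t : ℕ) : ℕ := wod e2 q t + 3 * wod e3 q t

/-- The weight of the first two block sizes together. -/
def fw (q M : ℕ) : ℕ := ∑ D ∈ range (M / 4 + 1), q ^ D * uw q (M - 4 * D)

theorem fw_add_four (q M : ℕ) : fw q (M + 4) = uw q (M + 4) + q * fw q M := by
  rw [fw, fw, show (M + 4) / 4 = M / 4 + 1 by omega, sum_range_succ', mul_sum, add_comm]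
  simp only [Nat.mul_zero, pow_zero, one_mul, Nat.sub_zero]
  congr 1
  refine sum_congr rfl fun D _ => ?_
  rw [show M + 4 - 4 * (D + 1) = M - 4 * D by omega, pow_succ]
  ring

theorem fw_le {q : ℕ} (hq : 3 ≤ q) :
    ∀ m : ℕ, (fw q (2 * m + 1) : ℤ) ≤ 16 * (q : ℤ) ^ m ∧ (fw q (2 * m) : ℤ) ≤ 8 * (q : ℤ) ^ m
  | 0 => by
    constructor <;> simp [fw, uw, wod, cnt, e2, e3]
  | 1 => by
    constructor <;>
      simp [fw, uw, wod, cnt, e2, e3, sum_range_succ, Nat.cast_sub (show 2 ≤ q by omega)] <;>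
      omega
  | m + 2 => by
    obtain ⟨ho, he⟩ := fw_le hq m
    have hq0 : (3 : ℤ) ≤ q := by exact_mod_cast hq
    constructor
    · rw [show 2 * (m + 2) + 1 = 2 * m + 1 + 4 by omega, fw_add_four, uw,
        show 2 * m + 1 + 4 = 2 * (m + 2) + 1 by omega, wod_e3_odd]
      push_cast
      rw [show 2 * (m + 2) + 1 = 2 * (m + 1) + 3 by omega, wod_e2_odd (by omega)]
      simp only [cnt]
      push_cast [Nat.cast_sub (show 1 ≤ q by omega)]
      have := mul_le_mul_of_nonneg_left ho (Nat.cast_nonneg (α := ℤ) q)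
      have hp := mul_nonneg (pow_nonneg (show (0 : ℤ) ≤ q by omega) m) (show (0 : ℤ) ≤ 4 * q - 12 by omega)
      rw [pow_succ _ (m + 1), pow_succ]
      linear_combination this + hp
    · rw [show 2 * (m + 2) = 2 * m + 4 by omega, fw_add_four, uw]
      push_cast
      rw [wod_e2_even (by omega), show 2 * m + 4 = 2 * (m + 1) + 2 by omega, wod_e3_even]
      rcases m with _ | k
      · simp [cnt, fw, uw, wod, e2, e3, Nat.cast_sub (show 2 ≤ q by omega),
          Nat.cast_sub (show 1 ≤ q by omega)]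
        nlinarith
      · simp only [cnt]
        push_cast [Nat.cast_sub (show 1 ≤ q by omega)]
        have := mul_le_mul_of_nonneg_left he (Nat.cast_nonneg (α := ℤ) q)
        have hp := pow_nonneg (show (0 : ℤ) ≤ q by omega) k
        simp only [pow_succ] at this ⊢
        nlinarith [mul_nonneg (mul_nonneg hp (show (0 : ℤ) ≤ (q : ℤ) - 3 by omega))
          (show (0 : ℤ) ≤ 4 * (q : ℤ) * q - 2 * q + 2 by nlinarith)]

/-- The local weight of a block size `i`. -/
noncomputable def gw (i t : ℕ) : ℝ :=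
  if Even i then ((29 / 50 : ℝ) ^ (2 * (i - 1))) ^ t
  else if t = 0 then 1 else if t = 1 then 4 * (29 / 50) ^ i
    else if t = 2 then 3 * (29 / 50) ^ (2 * (i - 1))
    else if Odd t then 16 / 3 * (29 / 50) ^ i * ((29 / 50) ^ (2 * (i - 1))) ^ (t / 2)
      else 28 / 9 * ((29 / 50) ^ (2 * (i - 1))) ^ (t / 2)

/-- The options of the block size `i` with total `t`. -/
def opt (q i t : ℕ) : ℕ := if Even i then wev q t else wod e2 q t

/-- The exponent of `q` split off from the options. -/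
def qexp (i t : ℕ) : ℕ := if Even i then t else t / 2

/-- The weight in dimensions. -/
def dimw (i t : ℕ) : ℕ := if Even i then 2 * i * t else i * t

theorem gw_nonneg (i t : ℕ) : 0 ≤ gw i t := by
  unfold gw; split_ifs <;> positivity

theorem two_qexp_le {i : ℕ} (hi : 1 ≤ i) (t : ℕ) : 2 * qexp i t ≤ dimw i t := by
  unfold qexp dimw
  split_ifs
  · nlinarith
  · have := Nat.le_mul_of_pos_left t hi
    omega

/-- Each option count is bounded by a power of `q` times the local weight. -/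
theorem opt_le {q : ℕ} (hq : 3 ≤ q) {i : ℕ} (hi : 1 ≤ i) (t : ℕ) :
    (opt q i t : ℝ) * (29 / 50) ^ (dimw i t - 2 * qexp i t) ≤ gw i t * (q : ℝ) ^ qexp i t := by
  have hq3 : (3 : ℝ) ≤ q := by exact_mod_cast hq
  set x : ℝ := 29 / 50 with hx
  have hx0 : 0 ≤ x := by norm_num [hx]
  by_cases hev : Even i
  · simp only [opt, qexp, dimw, gw, if_pos hev, ← hx, ← pow_mul]
    rw [show 2 * i * t - 2 * t = 2 * (i - 1) * t by rw [Nat.mul_sub, Nat.sub_mul, mul_one], mul_comm]
    refine mul_le_mul_of_nonneg_left ?_ (pow_nonneg hx0 _)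
    exact_mod_cast wev_le (show 2 ≤ q by omega) t
  obtain ⟨k, rfl⟩ : ∃ k, i = k + 1 := ⟨i - 1, by omega⟩
  simp only [opt, qexp, dimw, gw, if_neg hev, ← hx, ← pow_mul, Nat.add_sub_cancel]
  rcases t with _ | _ | _ | t
  · simp [wod, cnt, e2]
  · simp [wod, cnt, e2]
  · simp only [show (0 + 1 + 1 : ℕ) / 2 = 1 from rfl, pow_one, Nat.mul_one,
      show (k + 1) * (0 + 1 + 1) - 2 = 2 * k by omega, if_neg (show ¬(0 + 1 + 1 = 0) by omega),
      if_neg (show ¬(0 + 1 + 1 = 1) by omega), if_pos]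
    rw [mul_right_comm]
    refine mul_le_mul_of_nonneg_right ?_ (pow_nonneg hx0 _)
    simp [wod, cnt, e2, sum_range_succ, Nat.cast_sub (show 2 ≤ q by omega)]
    linarith
  rw [if_neg (by omega), if_neg (by omega), if_neg (by omega)]
  rcases Nat.even_or_odd t with ⟨m, rfl⟩ | ⟨m, rfl⟩
  · rw [if_pos (by use m + 1; omega)]
    have e1 : (k + 1) * (m + m + 1 + 1 + 1) - 2 * ((m + m + 1 + 1 + 1) / 2) =
        k + 1 + 2 * k * ((m + m + 1 + 1 + 1) / 2) := by
      rw [show (m + m + 1 + 1 + 1) / 2 = m + 1 by omega]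
      refine Nat.sub_eq_of_eq_add ?_
      ring
    rw [e1, pow_add, show 16 / 3 * x ^ (k + 1) * x ^ (2 * k * ((m + m + 1 + 1 + 1) / 2)) *
      (q : ℝ) ^ ((m + m + 1 + 1 + 1) / 2) = (16 / 3 * (q : ℝ) ^ ((m + m + 1 + 1 + 1) / 2)) *
        (x ^ (k + 1) * x ^ (2 * k * ((m + m + 1 + 1 + 1) / 2))) by ring]
    refine mul_le_mul_of_nonneg_right ?_ (by positivity)
    have h : ((wod e2 q (2 * m + 3) : ℕ) : ℤ) = _ := wod_e2_odd (show 2 ≤ q by omega) m
    have h' : ((wod e2 q (2 * m + 3) : ℕ) : ℝ) = (q : ℝ) ^ m * (4 * q + 4) := by exact_mod_cast h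
    rw [show m + m + 1 + 1 + 1 = 2 * m + 3 by omega, show (2 * m + 3) / 2 = m + 1 by omega, h', pow_succ]
    have : 0 ≤ (q : ℝ) ^ m := by positivity
    nlinarith
  · rw [if_neg (by rw [Nat.not_odd_iff_even]; use m + 2; omega)]
    have e1 : (k + 1) * (2 * m + 1 + 1 + 1 + 1) - 2 * ((2 * m + 1 + 1 + 1 + 1) / 2) =
        2 * k * ((2 * m + 1 + 1 + 1 + 1) / 2) := by
      rw [show (2 * m + 1 + 1 + 1 + 1) / 2 = m + 2 by omega]
      refine Nat.sub_eq_of_eq_add ?_
      ring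
    rw [e1, mul_right_comm (28 / 9 : ℝ)]
    refine mul_le_mul_of_nonneg_right ?_ (pow_nonneg hx0 _)
    have h : ((wod e2 q (2 * m + 4) : ℕ) : ℤ) = _ := wod_e2_even (show 2 ≤ q by omega) m
    have h' : ((wod e2 q (2 * m + 4) : ℕ) : ℝ) = (q : ℝ) ^ m * ((q : ℝ) ^ 2 + 6 * q + 1) := by
      exact_mod_cast h
    rw [show 2 * m + 1 + 1 + 1 + 1 = 2 * m + 4 by omega, show (2 * m + 4) / 2 = m + 2 by omega, h',
      pow_add]
    have : 0 ≤ (q : ℝ) ^ m := by positivity
    nlinarith [mul_nonneg (mul_nonneg this (show (0:ℝ) ≤ q - 3 by linarith))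
      (show (0 : ℝ) ≤ 19 / 9 * q + 1 / 3 by linarith)]

end CfsgLib.OrthClassNum
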